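import Cfsg.Agent.Lib.SEmb.Counting
import Cfsg.Agent.Lib.Invol.StronglyEmbedded
import Cfsg.Agent.Lib.CA.EvenOrder
import Cfsg.Agent.Lib.TwoGroupInvol.Basic
import Mathlib.GroupTheory.Sylow

/-!
# Groups with abelian involution centralizers: basic structure

`P` is a noncyclic, nonnormal Sylow `2`-subgroup; `C(P)` is then the common centralizer of the
involutions of `P` and `N(P)` is strongly embedded.
-/

set_option autoImplicit false
set_option linter.unusedSectionVars false

namespace CfsgLib.AbInvCent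

open MulAction Subgroup CfsgLib

/-- The standing hypothesis. -/
structure Hyp {G : Type*} [Group G] (P : Sylow 2 G) : Prop where
  hab : ∀ t : G, orderOf t = 2 → IsMulCommutative (centralizer ({t} : Set G))
  hnc : ¬ IsCyclic (P : Subgroup G)
  hnn : ¬ (P : Subgroup G).Normal

namespace Hyp

variable {G : Type*} [Group G] [Finite G] {P : Sylow 2 G} (h : Hyp P)
include h

local notation "A" => centralizer (((P : Subgroup G)) : Set G)
local notation "N" => normalizer ((P : Subgroup G) : Set G)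

theorem comm_cent {t : G} (ht : orderOf t = 2) {x y : G} (hx : Commute x t) (hy : Commute y t) :
    Commute x y :=
  congrArg Subtype.val ((h.hab t ht).is_comm.comm ⟨x, mem_centralizer_singleton_iff.mpr hx.eq⟩
    ⟨y, mem_centralizer_singleton_iff.mpr hy.eq⟩)

theorem ne_bot : (P : Subgroup G) ≠ ⊥ := fun e => h.hnn (e ▸ inferInstance)

theorem exists_central_invol :
    ∃ z ∈ (P : Subgroup G), orderOf z = 2 ∧ ∀ y ∈ (P : Subgroup G), Commute y z := by
  have : Nontrivial (P : Subgroup G) := (nontrivial_iff_ne_bot _).mpr h.ne_bot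
  have := P.isPGroup'.center_nontrivial
  obtain ⟨z, hz⟩ := exists_prime_orderOf_dvd_card' (G := center (P : Subgroup G)) 2
    ((P.isPGroup'.to_subgroup (center (P : Subgroup G))).card_eq_or_dvd.resolve_left
      Finite.one_lt_card.ne')
  exact ⟨((z : (P : Subgroup G)) : G), (z : (P : Subgroup G)).2,
    by rw [orderOf_coe, orderOf_coe, hz],
    fun y hy => congrArg Subtype.val (mem_center_iff.mp z.2 ⟨y, hy⟩)⟩

theorem comm_P {x y : G} (hx : x ∈ (P : Subgroup G)) (hy : y ∈ (P : Subgroup G)) : Commute x y := by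
  obtain ⟨z, -, hz, hc⟩ := h.exists_central_invol
  exact h.comm_cent hz (hc x hx) (hc y hy)

theorem P_le_A : (P : Subgroup G) ≤ A := fun _ hx =>
  mem_centralizer_iff.mpr fun _ hy => (h.comm_P hy hx).eq

omit h in
theorem commute_mem {a y : G} (ha : a ∈ A) (hy : y ∈ (P : Subgroup G)) : Commute a y :=
  (mem_centralizer_iff.mp ha y hy).symm

theorem centralizer_eq {t : G} (htP : t ∈ (P : Subgroup G)) (ht : orderOf t = 2) :
    centralizer ({t} : Set G) = A := by
  refine le_antisymm (fun x hx => mem_centralizer_iff.mpr fun y hy => ?_) fun x hx => ?_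
  · exact (h.comm_cent ht (h.comm_P hy htP) (mem_centralizer_singleton_iff.mp hx)).eq
  · exact mem_centralizer_singleton_iff.mpr (commute_mem hx htP).eq

theorem comm_A {a b : G} (ha : a ∈ A) (hb : b ∈ A) : Commute a b := by
  obtain ⟨z, hzP, hz, -⟩ := h.exists_central_invol
  exact h.comm_cent hz (commute_mem ha hzP) (commute_mem hb hzP)

theorem A_le_cent {a : G} (ha : a ∈ A) : A ≤ centralizer ({a} : Set G) := fun _ hx =>
  mem_centralizer_singleton_iff.mpr (h.comm_A hx ha).eq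

omit h in
theorem A_le_N : A ≤ N := by
  intro a ha
  refine mem_normalizer_iff.mpr fun x => ⟨fun hx => ?_, fun hx => ?_⟩
  · rwa [(commute_mem ha hx).eq, mul_inv_cancel_right]
  · have hc := commute_mem (Subgroup.inv_mem _ ha) hx
    have e : a⁻¹ * (a * x * a⁻¹) * a = a * x * a⁻¹ := by
      rw [hc.eq, mul_assoc, inv_mul_cancel, mul_one]
    have e' : a⁻¹ * (a * x * a⁻¹) * a = x := by simp [mul_assoc]
    rwa [← e'.symm.trans e] at hx

omit h in
theorem conj_mem_A {n a : G} (hn : n ∈ N) (ha : a ∈ A) : n * a * n⁻¹ ∈ A := by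
  refine mem_centralizer_iff.mpr fun y hy => ?_
  have hy' : n⁻¹ * y * n ∈ (P : Subgroup G) := (mem_normalizer_iff''.mp hn y).mp hy
  have e := (commute_mem ha hy').eq
  have e' := congrArg (fun w => n * w * n⁻¹) e
  simpa [mul_assoc] using e'.symm

omit h in
theorem mem_P_of_two_elem {x : G} (hx : x ∈ N) {k : ℕ} (hk : x ^ 2 ^ k = 1) :
    x ∈ (P : Subgroup G) := by
  have hp : IsPGroup 2 (zpowers x) := by
    obtain ⟨j, -, hj⟩ := (Nat.dvd_prime_pow Nat.prime_two).1 (orderOf_dvd_of_pow_eq_one hk)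
    exact IsPGroup.of_card (n := j) (by rw [Nat.card_zpowers, hj])
  exact ((hp.inf_normalizer_sylow P) ▸ ⟨mem_zpowers x, hx⟩ :
    x ∈ zpowers x ⊓ (P : Subgroup G)).2

omit h in
theorem mem_P_of_invol {x : G} (hx : x ∈ N) (h2 : orderOf x = 2) : x ∈ (P : Subgroup G) :=
  mem_P_of_two_elem hx (k := 1) (by rw [pow_one, ← h2, pow_orderOf_eq_one])

theorem two_pow_of_mem {x : G} (hx : x ∈ (P : Subgroup G)) : ∃ k, x ^ 2 ^ k = 1 := by
  obtain ⟨k, hk⟩ := P.isPGroup' ⟨x, hx⟩
  exact ⟨k, congrArg Subtype.val hk⟩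

theorem N_ne_top : N ≠ ⊤ := fun e => h.hnn (normalizer_eq_top_iff.mp e)

theorem stronglyEmbedded : Cfsg.IsStronglyEmbedded N := by
  obtain ⟨z, hzP, hz, -⟩ := h.exists_central_invol
  refine (Invol.isStronglyEmbedded_iff_fusion h.N_ne_top
    (Invol.even_card_of_orderOf_two_mem hz (le_normalizer hzP))).2 fun t ht ht2 g hg => ?_
  have htP := mem_P_of_invol ht ht2
  have htP' := mem_P_of_invol hg (by rw [Invol.orderOf_conj, ht2])
  have hA : ∀ y ∈ (P : Subgroup G), g * y * g⁻¹ ∈ A := fun y hy => by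
    rw [← h.centralizer_eq htP' (by rw [Invol.orderOf_conj, ht2]), mem_centralizer_singleton_iff,
      conj_mul, conj_mul, (h.comm_P hy htP).eq]
  have hP : ∀ y ∈ (P : Subgroup G), g * y * g⁻¹ ∈ (P : Subgroup G) := fun y hy => by
    obtain ⟨k, hk⟩ := h.two_pow_of_mem hy
    exact mem_P_of_two_elem (A_le_N (hA y hy)) (k := k) (by rw [conj_pow, hk, mul_one, mul_inv_cancel])
  rw [mem_normalizer_iff_map_conj_eq]
  refine eq_of_le_of_card_ge (fun _ ⟨y, hy, e⟩ => e ▸ hP y hy)
    (card_map_of_injective (MulAut.conj g).injective).ge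

/-! ### The action on the cosets of `N` -/

omit h in
theorem fix_o_iff {g : G} :
    g • (QuotientGroup.mk 1 : G ⧸ N) = QuotientGroup.mk 1 ↔ g ∈ N :=
  SEmb.smul_one_eq_iff g

omit h in
theorem invol_fix_o_iff {t : G} (ht : orderOf t = 2) :
    t • (QuotientGroup.mk 1 : G ⧸ N) = QuotientGroup.mk 1 ↔ t ∈ (P : Subgroup G) :=
  fix_o_iff.trans ⟨fun hn => mem_P_of_invol hn ht, fun hp => le_normalizer hp⟩

theorem invol_ne_center {t : G} (ht : orderOf t = 2) : t ∉ center G := by
  intro hc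
  have htN : t ∈ N := by
    refine mem_normalizer_iff.mpr fun x => ?_
    rw [← mem_center_iff.mp hc x, mul_inv_cancel_right]
  refine h.hnn (normalizer_eq_top_iff.mp (eq_top_iff.mpr fun g _ => A_le_N ?_))
  rw [← h.centralizer_eq (mem_P_of_invol htN ht) ht, mem_centralizer_singleton_iff]
  exact mem_center_iff.mp hc g

theorem center_odd {a : G} (hc : a ∈ center G) : Odd (orderOf a) := by
  rw [← Nat.not_even_iff_odd]
  intro he
  obtain ⟨m, hm⟩ := he
  have hpos := orderOf_pos a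
  refine h.invol_ne_center (t := a ^ m) ?_ (pow_mem hc m)
  rw [orderOf_pow_of_dvd (by omega) ⟨2, by omega⟩, hm, show m + m = 2 * m by omega,
    Nat.mul_div_cancel _ (by omega)]

theorem center_inf_P {a : G} (hc : a ∈ center G) (hP : a ∈ (P : Subgroup G)) : a = 1 := by
  obtain ⟨k, hk⟩ := h.two_pow_of_mem hP
  rw [← orderOf_eq_one_iff]
  exact Nat.eq_one_of_dvd_coprimes
    ((Nat.coprime_two_left.mpr (h.center_odd hc)).pow_left k) (orderOf_dvd_of_pow_eq_one hk) dvd_rfl

theorem center_le_A : center G ≤ A := fun _ hx =>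
  mem_centralizer_iff.mpr fun y _ => mem_center_iff.mp hx y

/-- Involutions with different fixed points are conjugate inside any subgroup containing them. -/
theorem exists_conj_mem (X : Subgroup G) {t u : G} (ht : orderOf t = 2) (hu : orderOf u = 2)
    (htX : t ∈ X) (huX : u ∈ X) {x y : G ⧸ N} (hx : t • x = x) (hy : u • y = y) (hxy : x ≠ y) :
    ∃ d ∈ X, d * t * d⁻¹ = u := by
  have ht2 := Invol.mul_self_eq_one ht
  have hu2 := Invol.mul_self_eq_one hu
  rcases Nat.even_or_odd (orderOf (t * u)) with he | ho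
  · exfalso
    have hs := Invol.middle_orderOf he (orderOf_pos _)
    obtain ⟨c1, c2⟩ := Invol.middle_commute ht2 hu2 he
    exact hxy (SEmb.point_unique h.stronglyEmbedded hs
      (SEmb.fix_of_commute h.stronglyEmbedded ht hx c1)
      (SEmb.fix_of_commute h.stronglyEmbedded hu hy c2))
  · obtain ⟨d, hd, e⟩ := Invol.exists_conj_of_odd ht2 hu2 ho
    exact ⟨d, (closure_le X).mpr (by rintro w (rfl | rfl) <;> assumption) hd, e⟩

/-- A subgroup containing `C(P)` and an involution outside `N(P)` contains `N(P)`. -/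
theorem N_le_of {X : Subgroup G} (hA : A ≤ X) {u : G} (hu : orderOf u = 2) (huX : u ∈ X)
    (huN : u ∉ N) : N ≤ X := by
  obtain ⟨z, hzP, hz, -⟩ := h.exists_central_invol
  obtain ⟨y, hy⟩ := SEmb.exists_fix h.stronglyEmbedded hu
  have hyo : (QuotientGroup.mk 1 : G ⧸ N) ≠ y := fun e => huN (fix_o_iff.mp (e ▸ hy))
  intro n hn
  have hz'P : n * z * n⁻¹ ∈ (P : Subgroup G) := (mem_normalizer_iff.mp hn z).mp hzP
  have hz' : orderOf (n * z * n⁻¹) = 2 := by rw [Invol.orderOf_conj, hz]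
  obtain ⟨d, hd, hde⟩ := h.exists_conj_mem X hz hu (hA (h.P_le_A hzP)) huX
    ((invol_fix_o_iff hz).mpr hzP) hy hyo
  obtain ⟨d', hd', hde'⟩ := h.exists_conj_mem X hz' hu (hA (h.P_le_A hz'P)) huX
    ((invol_fix_o_iff hz').mpr hz'P) hy hyo
  have hc : (d⁻¹ * d' * n) * z = z * (d⁻¹ * d' * n) := by
    rw [← mul_inv_eq_iff_eq_mul]
    calc d⁻¹ * d' * n * z * (d⁻¹ * d' * n)⁻¹ = d⁻¹ * (d' * (n * z * n⁻¹) * d'⁻¹) * d := by
          simp [mul_assoc]
      _ = d⁻¹ * (d * z * d⁻¹) * d := by rw [hde', hde]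
      _ = z := by simp [mul_assoc]
  have hA' : d⁻¹ * d' * n ∈ X := by
    refine hA ?_
    rw [← h.centralizer_eq hzP hz]
    exact mem_centralizer_singleton_iff.mpr hc
  simpa [mul_assoc] using X.mul_mem (X.inv_mem hd') (X.mul_mem hd hA')

omit h in
theorem invol_exists_swap (hse : Cfsg.IsStronglyEmbedded N) {R : G ⧸ N}
    (hR : R ≠ QuotientGroup.mk 1) :
    ∃ v : G, orderOf v = 2 ∧ v • (QuotientGroup.mk 1 : G ⧸ N) = R := by
  obtain ⟨t, ht, hto⟩ := SEmb.exists_invol_fix hse (QuotientGroup.mk 1 : G ⧸ N)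
  obtain ⟨u, hu, huR⟩ := SEmb.exists_invol_fix hse R
  obtain ⟨w, hw, -⟩ := SEmb.exists_swap hse ht hu hto huR hR.symm
  exact ⟨w, hw⟩

theorem exists_ne_o : ∃ R : G ⧸ N, R ≠ QuotientGroup.mk 1 := by
  obtain ⟨g, hg⟩ : ∃ g : G, g ∉ N := by
    by_contra hc
    push Not at hc
    exact h.N_ne_top (eq_top_iff.mpr fun g _ => hc g)
  exact ⟨QuotientGroup.mk g, fun e => hg (by simpa using QuotientGroup.eq.mp e.symm)⟩

theorem exists_invol_notMem_N : ∃ u : G, orderOf u = 2 ∧ u ∉ N := by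
  obtain ⟨R, hR⟩ := h.exists_ne_o
  obtain ⟨v, hv, hvo⟩ := invol_exists_swap h.stronglyEmbedded hR
  exact ⟨v, hv, fun hn => hR (hvo ▸ fix_o_iff.mpr hn)⟩

/-- A normal subgroup containing an involution contains `P` when it contains `C(P)`; then it is
everything. -/
theorem eq_top_of_normal {K : Subgroup G} [K.Normal] (hA : A ≤ K) : K = ⊤ := by
  obtain ⟨z, hzP, hz, -⟩ := h.exists_central_invol
  obtain ⟨u, hu, huN⟩ := h.exists_invol_notMem_N
  obtain ⟨g, rfl⟩ := isConj_iff.mp (SEmb.isConj_invol h.stronglyEmbedded hz hu)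
  have huK : g * z * g⁻¹ ∈ K := Normal.conj_mem inferInstance z (hA (h.P_le_A hzP)) g
  rw [eq_top_iff, ← Sylow.normalizer_sup_eq_top' P (h.P_le_A.trans hA)]
  exact sup_le (h.N_le_of hA hu huK huN) le_rfl

end Hyp

end CfsgLib.AbInvCent
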