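import Cfsg.Agent.Lib.CA.EvenOrder

/-!
# The exceptional character argument for a self-centralizing subgroup of even order

The proof is that of `CfsgLib.CA.Even.card_eq_card_invs_succ`, with simplicity weakened to
properness of the normalizer.
-/

set_option autoImplicit false

open scoped ComplexConjugate

namespace CfsgLib.AbInvCent

open CfsgLib.CA CfsgLib.CA.Even

universe u

variable {G : Type u} [Group G]

/-- A self-centralizing subgroup with a proper normalizer, equal to the centralizer of each of its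
(at least two) involutions, all involutions being conjugate, has exponent two. -/
theorem card_eq_card_invs_succ [Fintype G]
    (hconj : ∀ u v : G, orderOf u = 2 → orderOf v = 2 → IsConj u v)
    {A : Subgroup G} [Fintype A] (hN : Subgroup.normalizer (A : Set G) ≠ ⊤) (hA : SelfCent A) {t : A} (ht : t ∈ invs A)
    (hcent : Subgroup.centralizer ({(t : G)} : Set G) = A) (h2 : 2 ≤ (invs A).card) :
    Nat.card A = (invs A).card + 1 := by
  classical
  by_contra hbig
  set a := Nat.card A with ha
  set s := (invs A).card with hs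
  let N := Subgroup.normalizer (A : Set G)
  have htG : orderOf (t : G) = 2 := mem_invs_iff_orderOf.mp ht
  -- arithmetic of `a`, `s` and the index
  have hm : a = s * Fintype.card (Orb A) + 1 := card_A_eq hA hconj ht
  set m := Fintype.card (Orb A) with hmdef
  obtain ⟨c, hc⟩ : s + 1 ∣ a := card_invs_succ_dvd hA
  have hapos : 0 < a := Nat.card_pos
  have hc2 : 2 ≤ c := by
    rcases c with _ | _ | c
    · omega
    · omega
    · omega
  have hcs : s + 1 ≤ c := by
    have hdiv : s ∣ c - 1 := by
      have h3 : (s + 1) * c = s * c + c := by ring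
      refine ⟨m - c, ?_⟩
      rw [Nat.mul_sub]
      omega
    have := Nat.le_of_dvd (by omega) hdiv
    omega
  have hlarge : (s + 1) * (s + 1) ≤ a := hc ▸ Nat.mul_le_mul_left _ hcs
  obtain ⟨j, hj⟩ := index_normalizer_modEq hA hconj ht
  set n := N.index with hn
  have hn1 : 1 < n := by
    have hne1 : n ≠ 1 := by
      intro h
      rw [hn, Subgroup.index_eq_one] at h
      exact hN h
    have : n ≠ 0 := Subgroup.index_ne_zero_of_finite
    omega
  have hn2 : a + 1 ≤ n := by
    rcases Nat.lt_or_ge j 2 with hj2 | hj2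
    · interval_cases j <;> omega
    · have := Nat.mul_le_mul_right a hj2
      show a + 1 ≤ n
      change n + a = j * a + 1 at hj
      omega
  have hGcard : Nat.card G = n * (a * s) := by
    rw [← card_normalizer hA hconj ht, mul_comm]
    exact (Subgroup.card_mul_index N).symm
  -- two characters of `A`
  let Kf : Finset A := Finset.univ.filter (· ∈ omega hA)
  have hKf : Kf.card = s + 1 := by
    rw [← card_omega hA, Nat.card_eq_fintype_card, Fintype.card_subtype]
  have hone : (1 : A) ∈ Kf := Finset.mem_filter.mpr ⟨Finset.mem_univ _, one_mem _⟩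
  have hKerase : Kf.erase 1 = invs A := by
    ext b
    simp only [Kf, Finset.mem_erase, Finset.mem_filter, Finset.mem_univ, true_and, mem_invs]
    exact and_comm
  obtain ⟨k, hk⟩ : ∃ k : NP A, ∑ y ∈ Kf, (k.1 : A → ℂ) y ≠ 0 := by
    by_contra h
    push Not at h
    have htot : ∑ l : Cfsg.IrrCharacter A, ∑ y ∈ Kf, (l : A → ℂ) y = (a : ℂ) := by
      rw [Finset.sum_comm, Finset.sum_eq_single (1 : A) ?_ (fun h1 => absurd hone h1)]
      · simp [irr_apply_one hA, ← Nat.card_eq_fintype_card, card_irrA hA, ha]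
      · intro y _ hy
        have h := colA hA y 1
        simpa [irr_apply_one hA, hy] using h
    rw [Finset.sum_eq_single Char.principalIrr (fun l _ hl => h ⟨l, hl⟩)
      (fun h1 => absurd (Finset.mem_univ _) h1)] at htot
    simp only [Char.principalIrr_apply, Finset.sum_const, nsmul_eq_mul, mul_one, hKf] at htot
    exact hbig (by exact_mod_cast htot.symm)
  obtain ⟨k', hk'⟩ : ∃ k' : NP A, (k'.1 : A → ℂ) t ≠ 1 := by
    by_contra h
    push Not at h
    have h' := sum_np_apply hA (b := t) (mem_invs.mp ht).2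
    simp only [h, Finset.sum_const, nsmul_eq_mul, mul_one] at h'
    have h'' := congrArg Complex.re h'
    simp at h''
    have : (0 : ℝ) ≤ ((Finset.univ : Finset (NP A)).card : ℝ) := Nat.cast_nonneg _
    rw [Finset.card_univ] at this
    linarith
  have hk'0 : ∑ y ∈ Kf, (k'.1 : A → ℂ) y = 0 := sum_omega_eq_zero hA (mem_invs.mp ht).1 hk'
  set S : ℂ := ∑ y ∈ invs A, ((k.1 : A → ℂ) y - (k'.1 : A → ℂ) y) with hSdef
  have hS : S ≠ 0 := by
    rw [hSdef, Finset.sum_sub_distrib, ← hKerase, Finset.sum_erase_eq_sub hone,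
      Finset.sum_erase_eq_sub hone, hk'0, irr_apply_one hA, irr_apply_one hA]
    simpa using hk
  -- the exceptional characters
  obtain ⟨ε, μ, hε, hinj, hdiff⟩ := exists_exceptional hA
  have hε0 : ε ≠ 0 := by rcases hε with h | h <;> simp [h]
  have hε2 : ε * ε = 1 := by rcases hε with h | h <;> simp [h]
  obtain ⟨X, hXpos, hX⟩ := Char.IsIrrCharacter.exists_degree (μ (orb A k)).2
  have hdeg : ∀ l : NP A, (μ (orb A l) : G → ℂ) 1 = (X : ℂ) := by
    intro l
    have h := congrFun (hdiff l k) 1
    simp only [Pi.sub_apply, Pi.smul_apply, smul_eq_mul, Char.indFun_apply_one, irr_apply_one hA,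
      sub_self] at h
    rw [← hX]
    exact sub_eq_zero.mp ((mul_eq_zero.mp h.symm).resolve_left hε0)
  have hsq : m * X ^ 2 ≤ Nat.card G := by
    choose d _ hd using fun φ : Cfsg.IrrCharacter G => Char.IsIrrCharacter.exists_degree φ.2
    have hdX : ∀ o, d (μ o) = X := by
      intro o
      obtain ⟨l, rfl⟩ := Quotient.exists_rep o
      have h := hd (μ (orb A l))
      rw [hdeg] at h
      exact_mod_cast h.symm
    have hall : ∑ φ, d φ ^ 2 = Nat.card G := by
      have h := Char.sum_mul_conj (1 : G) 1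
      rw [if_pos (IsConj.refl _)] at h
      have hc1 : Subgroup.centralizer ({1} : Set G) = ⊤ := by
        ext z
        simp [Subgroup.mem_centralizer_singleton_iff]
      rw [hc1, Subgroup.card_top] at h
      simp only [hd, map_natCast, ← sq] at h
      exact_mod_cast h
    calc m * X ^ 2 = ∑ φ ∈ Finset.univ.image μ, d φ ^ 2 := by
          rw [Finset.sum_image fun x _ y _ h => hinj h]
          simp [hdX, hmdef]
      _ ≤ ∑ φ, d φ ^ 2 := Finset.sum_le_sum_of_subset (Finset.subset_univ _)
      _ = _ := hall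
  set D := (μ (orb A k) : G → ℂ) t with hD
  set D' := (μ (orb A k') : G → ℂ) t with hD'
  have hane : (a : ℂ) ≠ 0 := Nat.cast_ne_zero.mpr hapos.ne'
  have hDD : D - D' = ε * S := by
    have h := congrFun (hdiff k k') (t : G)
    simp only [Pi.sub_apply, Pi.smul_apply, smul_eq_mul] at h
    rw [indFun_apply_of_mem hA _ (mem_invs.mp ht).2, indFun_apply_of_mem hA _ (mem_invs.mp ht).2,
      sum_normalizer hA hconj ht, sum_normalizer hA hconj ht, inv_mul_cancel_left₀ hane,
      inv_mul_cancel_left₀ hane, ← Finset.sum_sub_distrib] at h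
    rw [hSdef, h, ← mul_assoc, hε2, one_mul]
  -- the class multiplication formula
  set I := (Finset.univ.filter (IsConj (t : G))).card with hI
  have hIa : I * a = Nat.card G := by
    have h := Char.card_isConj_mul_card_centralizer (t : G)
    rw [hcent, Nat.card_eq_fintype_card (α := {x : G // IsConj (t : G) x}),
      Fintype.card_subtype] at h
    exact h
  let P : A → ℕ := fun x =>
    ((Finset.univ.filter (IsConj (t : G)) ×ˢ Finset.univ.filter (IsConj (t : G))).filter
      (fun p => p.1 * p.2 = (x : G))).card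
  let g : A → ℂ := fun x => (k.1 : A → ℂ) x - (k'.1 : A → ℂ) x
  have hg1 : g 1 = 0 := by simp [g, irr_apply_one hA]
  have hL : ∑ x : A, (P x : ℂ) * g x = ((s : ℂ) - 1) * S := by
    rw [hSdef, Finset.mul_sum,
      ← Finset.sum_subset (Finset.subset_univ (invs A)) (fun x _ hx => ?_)]
    · refine Finset.sum_congr rfl fun x hx => ?_
      simp only [P, g]
      rw [card_pairs_mem hA hconj ht htG (mem_invs.mp hx).2, if_pos hx, Nat.cast_sub (by omega),
        Nat.cast_one]
    · by_cases hx1 : x = 1
      · rw [hx1, hg1, mul_zero]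
      · simp only [P]
        rw [card_pairs_mem hA hconj ht htG hx1, if_neg hx, Nat.cast_zero, zero_mul]
  have hcol : ∀ φ : Cfsg.IrrCharacter G, ∑ x : A, g x * conj ((φ : G → ℂ) x) =
      (a : ℂ) * (ε * ((if μ (orb A k) = φ then 1 else 0) - if μ (orb A k') = φ then 1 else 0)) := by
    intro φ
    have h1 : Cfsg.classInner g (fun x : A => (φ : G → ℂ) x) =
        ε * ((if μ (orb A k) = φ then 1 else 0) - if μ (orb A k') = φ then 1 else 0) := by
      show Cfsg.classInner ((k.1 : A → ℂ) - (k'.1 : A → ℂ)) _ = _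
      rw [← Char.classInner_indFun _ _ _ (Char.IsIrrCharacter.isClassFunction φ.2),
        Char.indFun_sub, hdiff, Char.classInner_smul_left, Char.classInner_sub_left,
        Char.classInner_irrCharacter, Char.classInner_irrCharacter]
    rw [← h1, Cfsg.classInner, ← ha, mul_inv_cancel_left₀ hane]
  have hR : ∑ x : A, (P x : ℂ) * g x = (I : ℂ) * I / (Nat.card G : ℂ) *
      ((a : ℂ) * ε * (D * D / (X : ℂ) - D' * D' / (X : ℂ))) := by
    have hPc : ∀ x : A, (P x : ℂ) = (I : ℂ) * I / (Nat.card G : ℂ) *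
        ∑ φ : Cfsg.IrrCharacter G,
          (φ : G → ℂ) t * (φ : G → ℂ) t * conj ((φ : G → ℂ) x) / (φ : G → ℂ) 1 := fun x => by
      convert CharDeep.ClassSum.card_pairs (t : G) t (x : G)
    simp only [hPc]
    simp only [mul_assoc ((I : ℂ) * I / (Nat.card G : ℂ)), ← Finset.mul_sum, Finset.sum_mul]
    congr 1
    rw [Finset.sum_comm]
    have : ∀ φ : Cfsg.IrrCharacter G, ∑ x : A,
        (φ : G → ℂ) t * (φ : G → ℂ) t * conj ((φ : G → ℂ) x) / (φ : G → ℂ) 1 * g x =
        ((a : ℂ) * ε * (if μ (orb A k) = φ then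
          (φ : G → ℂ) t * (φ : G → ℂ) t / (φ : G → ℂ) 1 else 0)) -
        ((a : ℂ) * ε * (if μ (orb A k') = φ then
          (φ : G → ℂ) t * (φ : G → ℂ) t / (φ : G → ℂ) 1 else 0)) := by
      intro φ
      calc _ = (φ : G → ℂ) t * (φ : G → ℂ) t / (φ : G → ℂ) 1 *
            ∑ x : A, g x * conj ((φ : G → ℂ) x) := by
            rw [Finset.mul_sum]
            exact Finset.sum_congr rfl fun x _ => by ring
        _ = _ := by
            rw [hcol]
            split_ifs <;> ring
    rw [Finset.sum_congr rfl fun φ _ => this φ, Finset.sum_sub_distrib, ← Finset.mul_sum,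
      ← Finset.mul_sum, Finset.sum_ite_eq, Finset.sum_ite_eq, if_pos (Finset.mem_univ _),
      if_pos (Finset.mem_univ _), hdeg, hdeg, ← hD, ← hD', mul_sub]
  have hXne : (X : ℂ) ≠ 0 := Nat.cast_ne_zero.mpr hXpos.ne'
  have hGne : (Nat.card G : ℂ) ≠ 0 := Nat.cast_ne_zero.mpr Nat.card_pos.ne'
  have hIne : (I : ℂ) ≠ 0 := by
    refine Nat.cast_ne_zero.mpr fun h => ?_
    rw [h, zero_mul] at hIa
    exact Nat.card_pos.ne hIa
  have hIaC : (I : ℂ) * a = (Nat.card G : ℂ) := by exact_mod_cast hIa
  have hJ : (D + D') * (Nat.card G : ℂ) = ((s : ℂ) - 1) * a * X := by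
    have h := hL.symm.trans hR
    field_simp at h
    refine mul_left_cancel₀ (mul_ne_zero hS hIne) ?_
    rw [← hIaC] at h ⊢
    linear_combination (-1 : ℂ) * h - (D + D') * (I : ℂ) * I * a * ε * hDD -
      (D + D') * (I : ℂ) * I * a * S * hε2
  obtain ⟨z, hz⟩ : ∃ z : ℤ, ((((s - 1) * a * X : ℕ) : ℚ) / (Nat.card G : ℚ)) = z := by
    suffices h : IsIntegral ℤ ((((((s - 1) * a * X : ℕ) : ℚ) / (Nat.card G : ℚ)) : ℚ) : ℂ) from
      (Char.exists_int_of_isIntegral_ratCast h).imp fun z hz => hz.symm
    have : (((((s - 1) * a * X : ℕ) : ℚ) / (Nat.card G : ℚ) : ℚ) : ℂ) = D + D' := by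
      push_cast [Nat.cast_sub (show 1 ≤ s by omega)]
      rw [div_eq_iff hGne, hJ]
    rw [this]
    exact IsIntegral.add
      (Char.IsGeneralizedCharacter.isIntegral_apply
        (Char.IsIrrCharacter.isGeneralizedCharacter (μ (orb A k)).2) _)
      (Char.IsGeneralizedCharacter.isIntegral_apply
        (Char.IsIrrCharacter.isGeneralizedCharacter (μ (orb A k')).2) _)
  have hle : Nat.card G ≤ (s - 1) * a * X := by
    by_contra hlt
    push Not at hlt
    have hposQ : (0 : ℚ) < (((s - 1) * a * X : ℕ) : ℚ) := by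
      exact_mod_cast Nat.mul_pos (Nat.mul_pos (by omega) hapos) hXpos
    have hGQ : (0 : ℚ) < (Nat.card G : ℚ) := by exact_mod_cast Nat.card_pos
    have hlt' : (((s - 1) * a * X : ℕ) : ℚ) < (Nat.card G : ℚ) := by exact_mod_cast hlt
    have h0 : (0 : ℚ) < z := hz ▸ div_pos hposQ hGQ
    have h1 : (z : ℚ) < 1 := hz ▸ (div_lt_one hGQ).mpr hlt'
    norm_cast at h0 h1
    omega
  have hnX : n < X := by
    rw [hGcard] at hle
    obtain ⟨p, hp⟩ : ∃ p, s = p + 1 := ⟨s - 1, by omega⟩
    rw [hp, Nat.add_sub_cancel] at hle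
    by_contra hXn
    push Not at hXn
    have h1 := Nat.mul_le_mul_left (p * a) hXn
    have h2 : n * (a * (p + 1)) = p * a * n + n * a := by ring
    have h3 : 0 < n * a := Nat.mul_pos (by omega) hapos
    omega
  have hmpos : 0 < m := Fintype.card_pos_iff.mpr ⟨orb A k⟩
  have hfin : m * n < a * s := by
    rw [hGcard] at hsq
    by_contra h
    push Not at h
    have h1 : m * n ^ 2 < m * X ^ 2 :=
      Nat.mul_lt_mul_of_pos_left (Nat.pow_lt_pow_left hnX (by norm_num)) hmpos
    have h2 := Nat.mul_le_mul_left n h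
    have h3 : n * (m * n) = m * n ^ 2 := by ring
    omega
  have h1 : m * (a + 1) < a * s := lt_of_le_of_lt (Nat.mul_le_mul_left m hn2) hfin
  have h1' : s * (m * (a + 1)) < s * (a * s) := Nat.mul_lt_mul_of_pos_left h1 (by omega)
  have h3 : s * (m * (a + 1)) + (a + 1) = a * a + a := by
    calc s * (m * (a + 1)) + (a + 1) = (s * m + 1) * (a + 1) := by ring
      _ = a * (a + 1) := by rw [← hm]
      _ = a * a + a := by ring
  have h4 : a * (s * s) + a ≤ a * a := by
    calc a * (s * s) + a = a * (s * s + 1) := by ring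
      _ ≤ a * ((s + 1) * (s + 1)) := Nat.mul_le_mul_left _ (by nlinarith)
      _ ≤ a * a := Nat.mul_le_mul_left _ hlarge
  have h5 : s * (a * s) = a * (s * s) := by ring
  omega

end CfsgLib.AbInvCent
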