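import Cfsg.Agent.Lib.SEmb.ZassenhausSL2

/-!
# No odd subgroup complements a Sylow `2`-subgroup of `SL(2, 2^n)`
-/

set_option autoImplicit false
set_option linter.unusedSectionVars false

namespace CfsgLib.SEmb.ElemCent

open MulAction Subgroup CfsgLib

variable {G : Type*} [Group G] [Finite G] {T : Sylow 2 G} (h : ElemCent T)
include h

local notation "HN" => normalizer ((T : Subgroup G) : Set G)
local notation "Ω" => G ⧸ normalizer ((T : Subgroup G) : Set G)
local notation "o" => (QuotientGroup.mk 1 : G ⧸ normalizer ((T : Subgroup G) : Set G))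

theorem eq_one_of_odd_of_mem_T {D : Subgroup G} (hodd : Odd (Nat.card D)) {x : G} (hxD : x ∈ D)
    (hxT : x ∈ (T : Subgroup G)) : x = 1 := by
  have h1 : orderOf x ∣ Nat.card D := orderOf_mk x hxD ▸ orderOf_dvd_natCard _
  have h2 : orderOf x ∣ 2 := orderOf_dvd_of_pow_eq_one (by rw [pow_two, h.sq_T hxT])
  exact orderOf_eq_one_iff.mp
    (Nat.eq_one_of_dvd_coprimes (Nat.coprime_two_right.mpr hodd) h1 h2)

/-- The index of `T` is at least `(q - 1)(q + 1)`. -/
theorem le_index_T :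
    (Nat.card (T : Subgroup G) + 1) * (Nat.card (T : Subgroup G) - 1) ≤ (T : Subgroup G).index := by
  obtain ⟨y, hy⟩ : ∃ y : Ω, y ≠ o := by
    have : Nontrivial Ω := Finite.one_lt_card_iff_nontrivial.mp (by
      have := h.three_le; rw [h.card_points]; omega)
    exact exists_ne o
  have hidx : (HN).index = Nat.card (T : Subgroup G) + 1 := h.card_points
  have hle : Nat.card ↥(stabilizer G o ⊓ stabilizer G y) * Nat.card (T : Subgroup G) ≤
      Nat.card HN := by
    rw [← Nat.card_prod]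
    refine Nat.card_le_card_of_injective (fun p : ↥(stabilizer G o ⊓ stabilizer G y) × _ =>
      (⟨(p.1 : G) * (p.2 : (T : Subgroup G)), mul_mem ((smul_one_eq_iff _).mp p.1.2.1)
        (le_normalizer p.2.2)⟩ : HN)) ?_
    rintro ⟨⟨a, ha⟩, ⟨t, ht⟩⟩ ⟨⟨b, hb⟩, ⟨s, hs⟩⟩ e
    have e' : a * t = b * s := congrArg Subtype.val e
    have h1 : b⁻¹ * a = s * t⁻¹ := by
      calc b⁻¹ * a = b⁻¹ * (a * t) * t⁻¹ := by simp [mul_assoc]
        _ = s * t⁻¹ := by rw [e']; simp
    have hT : b⁻¹ * a ∈ (T : Subgroup G) := h1 ▸ mul_mem hs (inv_mem ht)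
    have hS := (stabilizer G o ⊓ stabilizer G y).mul_mem (inv_mem hb) ha
    have h2 := h.eq_one_of_two_fix (h.sq_T hT) hy.symm hS.1 hS.2
    obtain rfl : b = a := inv_mul_eq_one.mp h2
    simp only [mul_right_inj] at e'
    simp [e']
  rw [h.card_stab hy.symm, ← card_mul_index ((T : Subgroup G).subgroupOf HN),
    Nat.card_congr (subgroupOfEquivOfLe (le_normalizer (H := (T : Subgroup G)))).toEquiv,
    mul_comm] at hle
  have h3 := Nat.le_of_mul_le_mul_left hle Nat.card_pos
  rw [← relIndex_mul_index (le_normalizer (H := (T : Subgroup G))), mul_comm]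
  exact Nat.mul_le_mul h3 hidx.ge

/-- There is no subgroup of odd order complementing `T`. -/
theorem no_odd_complement (D : Subgroup G) (hodd : Odd (Nat.card D))
    (hcard : Nat.card D = (T : Subgroup G).index) : False := by
  classical
  set q := Nat.card (T : Subgroup G) with hq
  have hq4 : 4 ≤ q := h.three_le
  set D₀ := D ⊓ stabilizer G o with hD₀
  obtain ⟨z, hz, hzo⟩ := exists_invol_fix h.stronglyEmbedded o
  have hzT := (h.invol_fix_base hz).mp hzo
  -- the orbit and the stabilizer in `D`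
  have hstab : Nat.card D₀ ≤ q - 1 := by
    rw [← h.card_swap_eq o o]
    refine Nat.card_le_card_of_injective (fun d : D₀ => (⟨(d : G) * z * (d : G)⁻¹,
      by rw [Invol.orderOf_conj, hz], by
        rw [← smul_smul, ← smul_smul, inv_smul_eq_iff.mpr d.2.2.symm, hzo]; exact d.2.2⟩ :
        Swap o o)) fun a b e => ?_
    have e' : (a : G) * z * (a : G)⁻¹ = (b : G) * z * (b : G)⁻¹ := congrArg Subtype.val e
    have hc : (b : G)⁻¹ * a ∈ centralizer ({z} : Set G) := by
      rw [mem_centralizer_singleton_iff]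
      have h2 := congrArg (fun w => (b : G)⁻¹ * w * a) e'
      simpa [mul_assoc] using h2
    rw [h.centralizer_eq hzT hz] at hc
    exact Subtype.ext (inv_mul_eq_one.mp
      (h.eq_one_of_odd_of_mem_T hodd (mul_mem (inv_mem b.2.1) a.2.1) hc)).symm
  have horb : Nat.card (MulAction.orbit D o) ≤ q + 1 := by
    rw [← h.card_points]
    exact Nat.card_le_card_of_injective _ Subtype.val_injective
  have hmul : Nat.card (MulAction.orbit D o) * Nat.card D₀ = Nat.card D := by
    have e : stabilizer D o = D₀.subgroupOf D := by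
      ext d
      simp only [D₀, mem_subgroupOf, mem_inf, mem_stabilizer_iff]
      exact ⟨fun e => ⟨d.2, e⟩, fun e => e.2⟩
    rw [← Nat.card_congr (orbitProdStabilizerEquivGroup D o), Nat.card_prod,
      Nat.card_congr (Equiv.cast (congrArg (fun S : Subgroup D => ↥S) e)),
      Nat.card_congr (subgroupOfEquivOfLe (inf_le_left : D₀ ≤ D)).toEquiv]
  have hge := h.le_index_T
  rw [← hcard, ← hmul, ← hq] at hge
  have hD₀eq : Nat.card D₀ = q - 1 := by
    refine le_antisymm hstab ?_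
    by_contra hlt
    push Not at hlt
    have := Nat.mul_le_mul_right (Nat.card D₀) horb
    have := Nat.mul_lt_mul_of_pos_left hlt (show 0 < q + 1 by omega)
    omega
  have horb' : Nat.card (MulAction.orbit D o) = q + 1 := by
    refine le_antisymm horb ?_
    rw [hD₀eq] at hge
    exact Nat.le_of_mul_le_mul_right hge (by omega)
  obtain ⟨y₀, hy₀⟩ : ∃ y : Ω, y ≠ o := by
    have : Nontrivial Ω := Finite.one_lt_card_iff_nontrivial.mp (by rw [h.card_points]; omega)
    exact exists_ne o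
  have hTnorm : ∀ g : G, g • o = o → ∀ t ∈ (T : Subgroup G), g * t * g⁻¹ ∈ (T : Subgroup G) :=
    fun g hg t ht => (mem_normalizer_iff.mp ((smul_one_eq_iff g).mp hg) t).mp ht
  have hfac : ∀ g : G, g • o = o → ∃ e k : G, g = e * k ∧ (e • o = o ∧ e • y₀ = y₀) ∧
      k ∈ (T : Subgroup G) := fun g hg => by
    obtain ⟨e, k, hek, he, hk, hko⟩ := h.exists_factor hy₀.symm hg
    refine ⟨e, k, hek, he, ?_⟩
    rcases eq_or_ne k 1 with rfl | hk1
    · exact one_mem _
    · exact (h.invol_fix_base (Invol.orderOf_eq_two hk1 hk)).mp hko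
  -- `D₀` is abelian
  have hcomm : ∀ a ∈ D₀, ∀ b ∈ D₀, Commute a b := by
    intro a ha b hb
    obtain ⟨e, k, ha', he, hk⟩ := hfac a ha.2
    obtain ⟨f, l, hb', hf, hl⟩ := hfac b hb.2
    have hef := h.stab_commute hy₀.symm he.1 he.2 hf.1 hf.2
    have hT : (b * a)⁻¹ * (a * b) ∈ (T : Subgroup G) := by
      have e1 : (b * a)⁻¹ * (a * b) =
          k⁻¹ * (e⁻¹ * l⁻¹ * (e⁻¹)⁻¹) * (f⁻¹ * k * (f⁻¹)⁻¹) * l := by
        rw [ha', hb']
        simp only [mul_inv_rev, mul_assoc, inv_inv]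
        rw [hef.inv_right.symm.left_comm]
      rw [e1]
      exact mul_mem (mul_mem (mul_mem (inv_mem hk)
        (hTnorm _ (inv_smul_eq_iff.mpr he.1.symm) _ (inv_mem hl)))
        (hTnorm _ (inv_smul_eq_iff.mpr hf.1.symm) _ hk)) hl
    exact (inv_mul_eq_one.mp (h.eq_one_of_odd_of_mem_T hodd
      (mul_mem (inv_mem (mul_mem hb.1 ha.1)) (mul_mem ha.1 hb.1)) hT)).symm
  -- a nonidentity element of `D₀` and its second fixed point
  have : Nontrivial D₀ := Finite.one_lt_card_iff_nontrivial.mp (by omega)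
  obtain ⟨⟨d, hd⟩, hd1'⟩ := exists_ne (1 : D₀)
  have hd1 : d ≠ 1 := fun e => hd1' (Subtype.ext e)
  have hdT : d ∉ (T : Subgroup G) := fun hT => hd1 (h.eq_one_of_odd_of_mem_T hodd hd.1 hT)
  obtain ⟨y, hy, hdy⟩ : ∃ y : Ω, y ≠ o ∧ d • y = y := by
    obtain ⟨e, k, hek, he, hk⟩ := hfac d hd.2
    let f : ↥(T : Subgroup G) → ↥(T : Subgroup G) := fun t =>
      ⟨(t : G)⁻¹ * (d * t * d⁻¹), mul_mem (inv_mem t.2) (hTnorm d hd.2 t t.2)⟩
    have hf : Function.Injective f := by
      intro t s e'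
      have e'' : (t : G)⁻¹ * (d * t * d⁻¹) = (s : G)⁻¹ * (d * s * d⁻¹) := congrArg Subtype.val e'
      by_contra hne
      have hc : Commute d ((s : G) * (t : G)⁻¹) := by
        show d * ((s : G) * (t : G)⁻¹) = (s : G) * (t : G)⁻¹ * d
        have h2 := congrArg (fun w => (s : G) * w * (d * (t : G)⁻¹)) e''
        simpa [mul_assoc] using h2.symm
      have hm := mul_mem s.2 (inv_mem t.2)
      have hst : (s : G) * (t : G)⁻¹ ≠ 1 := fun e3 =>
        hne (Subtype.ext (mul_inv_eq_one.mp e3).symm)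
      refine hdT ?_
      rw [← h.centralizer_eq hm (h.orderOf_mem_T hm hst), mem_centralizer_singleton_iff]
      exact hc.eq
    obtain ⟨t, ht⟩ := (Finite.injective_iff_surjective.mp hf)
      ⟨e * k⁻¹ * e⁻¹, hTnorm e he.1 _ (inv_mem hk)⟩
    have ht' : (t : G)⁻¹ * (d * t * d⁻¹) = e * k⁻¹ * e⁻¹ := congrArg Subtype.val ht
    refine ⟨(t : G) • y₀, fun e' => hy₀ (smul_left_cancel (t : G)
      (e'.trans (h.fix_base_of_mem t.2).symm)), ?_⟩
    have h3 : (t : G)⁻¹ * d * t = e := by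
      calc (t : G)⁻¹ * d * t = (t : G)⁻¹ * (d * t * d⁻¹) * d := by simp [mul_assoc]
        _ = e * k⁻¹ * e⁻¹ * (e * k) := by rw [ht', hek]
        _ = e := by simp [mul_assoc]
    calc d • (t : G) • y₀ = (t : G) • ((t : G)⁻¹ * d * t) • y₀ := by simp [smul_smul, mul_assoc]
      _ = (t : G) • y₀ := by rw [h3, he.2]
  have hfix : ∀ g ∈ D₀, g • y = y := by
    intro g hg
    by_contra hne
    have hgo : g • y ≠ o := fun e => hy (smul_left_cancel g (e.trans hg.2.symm))
    refine hd1 (h.eq_one_of_three_fix hy.symm hgo.symm (Ne.symm hne) hd.2 hdy ?_)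
    rw [smul_smul, (hcomm d hd g hg).eq, ← smul_smul, hdy]
  -- an element of `D` carrying `o` to `y`
  have hsurj : ∀ w : Ω, ∃ g ∈ D, g • o = w := fun w => by
    obtain ⟨⟨v, g, hg⟩, rfl⟩ :=
      ((Nat.bijective_iff_injective_and_card (Subtype.val : MulAction.orbit D o → Ω)).mpr
        ⟨Subtype.val_injective, by rw [horb', h.card_points]⟩).2 w
    exact ⟨g, g.2, hg⟩
  obtain ⟨g, hgD, hgo⟩ := hsurj y
  set D₁ := D ⊓ stabilizer G y with hD₁
  have hle : D₀ ≤ D₁ := fun w hw => ⟨hw.1, hfix w hw⟩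
  have hmap : D₀.map (MulAut.conj g).toMonoidHom ≤ D₁ := by
    rintro _ ⟨w, hw, rfl⟩
    refine ⟨D.mul_mem (D.mul_mem hgD hw.1) (D.inv_mem hgD), ?_⟩
    show (g * w * g⁻¹) • y = y
    rw [← smul_smul, ← smul_smul, inv_smul_eq_iff.mpr hgo.symm]
    exact (congrArg (g • ·) hw.2).trans hgo
  have hcard1 : Nat.card D₁ ≤ Nat.card D₀ := by
    have e : D₁ ≤ D₀.map (MulAut.conj g).toMonoidHom := fun w hw => by
      refine ⟨g⁻¹ * w * g, ⟨D.mul_mem (D.mul_mem (D.inv_mem hgD) hw.1) hgD, ?_⟩, by simp [mul_assoc]⟩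
      show (g⁻¹ * w * g) • o = o
      rw [← smul_smul, ← smul_smul, hgo, show w • y = y from hw.2, inv_smul_eq_iff, hgo]
    exact (card_le_of_le e).trans (card_map_of_injective (MulAut.conj g).injective).le
  have heq : D₀ = D₁ := eq_of_le_of_card_ge hle hcard1
  have hgd : g * d * g⁻¹ ∈ D₀ := heq ▸ hmap ⟨d, hd, rfl⟩
  have hgy : g • y = o := by
    by_contra hne
    have hne' : g • y ≠ y := fun e => hy (smul_left_cancel g (e.trans hgo.symm))
    refine hd1 (conj_eq_one_iff.mp (h.eq_one_of_three_fix hy.symm (Ne.symm hne) hne'.symm hgd.2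
      (hfix _ hgd) ?_))
    simp only [smul_smul, inv_mul_cancel_right]
    rw [← smul_smul, hdy]
  -- `g` then interchanges `o` and `y`, but has odd order
  have hg2 : (g * g) • o = o := by rw [← smul_smul, hgo, hgy]
  obtain ⟨m, hm⟩ : Odd (orderOf g) :=
    hodd.of_dvd_nat (orderOf_mk g hgD ▸ orderOf_dvd_natCard _)
  have h1 : (g * g) ^ (m + 1) = g := by
    rw [← pow_two, ← pow_mul, show 2 * (m + 1) = orderOf g + 1 by omega, pow_succ,
      pow_orderOf_eq_one, one_mul]
  have h2 : g • o = o := by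
    rw [← h1]
    exact mem_stabilizer_iff.mp (pow_mem (mem_stabilizer_iff.mpr hg2) _)
  exact hy (hgo.symm.trans h2)

end CfsgLib.SEmb.ElemCent
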