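import Cfsg.Agent.Lib.AbInvCent.SelfCent
import Cfsg.Agent.Lib.AbInvCent.Card
import Cfsg.Agent.Lib.AbInvCent.OddComplement
import Cfsg.Agent.Lib.TwoGroupInvol.Basic
import Cfsg.Agent.Lib.Char.Complete

/-!
# Groups with abelian involution centralizers: squares of `C(P)` are central and `P` is elementary
-/

set_option autoImplicit false
set_option linter.unusedSectionVars false

namespace CfsgLib.AbInvCent

open MulAction Subgroup CfsgLib

universe u

variable {G : Type u} [Group G] [Finite G] {P : Sylow 2 G}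

local notation "A" => centralizer (((P : Subgroup G)) : Set G)
local notation "N" => normalizer ((P : Subgroup G) : Set G)

/-- `P` is elementary abelian and the squares of the elements of `C(P)` are central. -/
def Claim (P : Sylow 2 G) : Prop :=
  (∀ x ∈ (P : Subgroup G), x * x = 1) ∧
    ∀ a ∈ centralizer ((P : Subgroup G) : Set G), a * a ∈ center G

theorem mem_centralizer_singleton_iff_commute {a x : G} :
    x ∈ centralizer ({a} : Set G) ↔ Commute x a :=
  mem_centralizer_singleton_iff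

namespace Hyp

variable (h : Hyp P)
include h

theorem A_ne_bot : A ≠ ⊥ := fun e => h.ne_bot (eq_bot_iff.mpr (h.P_le_A.trans e.le))

theorem normalizer_A_ne_top : normalizer (A : Set G) ≠ ⊤ := fun e =>
  h.hnn ⟨fun x hx g => by
    obtain ⟨k, hk⟩ := h.two_pow_of_mem hx
    exact mem_P_of_two_elem
      (A_le_N ((mem_normalizer_iff.mp (e.ge (mem_top g)) x).mp (h.P_le_A hx))) (k := k)
      (by rw [conj_pow, hk, mul_one, mul_inv_cancel])⟩

theorem two_le_card_invs [Fintype ↥A] : 2 ≤ (CA.Even.invs A).card := by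
  classical
  by_contra hlt
  push Not at hlt
  obtain ⟨z, hzP, hz, -⟩ := h.exists_central_invol
  have huniq : ∀ x ∈ (P : Subgroup G), orderOf x = 2 → x = z := fun x hx hx2 =>
    congrArg Subtype.val ((Finset.card_le_one.mp (by omega : (CA.Even.invs A).card ≤ 1))
      (⟨x, h.P_le_A hx⟩ : ↥A) (CA.Even.mem_invs_iff_orderOf.mpr hx2)
      ⟨z, h.P_le_A hzP⟩ (CA.Even.mem_invs_iff_orderOf.mpr hz))
  let _ : CommGroup (P : Subgroup G) :=
    { (inferInstance : Group (P : Subgroup G)) with
      mul_comm := fun a b => Subtype.ext (h.comm_P a.2 b.2) }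
  let _ : Fintype (P : Subgroup G) := Fintype.ofFinite _
  refine h.hnc (TwoGroupInvol.isCyclic_of_roots_le_two P.isPGroup'
    (le_trans (Finset.card_le_card (fun f hf => ?_))
      (Finset.card_le_two (a := (1 : (P : Subgroup G))) (b := ⟨z, hzP⟩))))
  simp only [Finset.mem_filter, Finset.mem_univ, true_and] at hf
  by_cases hf1 : f = 1
  · simp [hf1]
  · refine Finset.mem_insert_of_mem (Finset.mem_singleton.mpr (Subtype.ext (huniq f f.2 ?_)))
    exact Invol.orderOf_eq_two (fun e => hf1 (Subtype.ext e)) (congrArg Subtype.val hf)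

theorem sq_eq_one_of_good (hg : Good P) {a : G} (ha : a ∈ A) : a * a = 1 := by
  classical
  cases nonempty_fintype G
  let _ : Fintype ↥A := Fintype.ofFinite _
  obtain ⟨z, hzP, hz, -⟩ := h.exists_central_invol
  have hS : CA.SelfCent A := ⟨h.A_ne_bot, fun x hx hx1 => h.centralizer_eq_A hg hx hx1⟩
  have hcard := card_eq_card_invs_succ (fun u v hu hv => SEmb.isConj_invol h.stronglyEmbedded hu hv)
    h.normalizer_A_ne_top hS (t := (⟨z, h.P_le_A hzP⟩ : ↥A))
    (CA.Even.mem_invs_iff_orderOf.mpr hz) (h.centralizer_eq hzP hz) h.two_le_card_invs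
  rw [← CA.Even.card_omega hS] at hcard
  have htop : CA.Even.omega hS = ⊤ := Subgroup.eq_top_of_card_eq _ hcard.symm
  have hm : (⟨a, ha⟩ : ↥A) ∈ CA.Even.omega hS := htop ▸ mem_top _
  exact congrArg Subtype.val hm

/-! ### The quotient by the centre -/

theorem exists_invol_lift {t : G ⧸ center G} (ht : orderOf t = 2) :
    ∃ s : G, orderOf s = 2 ∧ QuotientGroup.mk' (center G) s = t := by
  obtain ⟨t₀, rfl⟩ := QuotientGroup.mk'_surjective (center G) t
  have hc : t₀ ^ 2 ∈ center G := by
    rw [← QuotientGroup.eq_one_iff, ← QuotientGroup.mk'_apply, map_pow, ← ht, pow_orderOf_eq_one]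
  obtain ⟨j, hj⟩ := h.center_odd hc
  have hmap : QuotientGroup.mk' (center G) (t₀ ^ (2 * j + 1)) = QuotientGroup.mk' (center G) t₀ := by
    rw [map_pow, pow_succ, pow_mul, show (QuotientGroup.mk' (center G) t₀) ^ 2 = 1 by
      rw [← ht, pow_orderOf_eq_one], one_pow, one_mul]
  refine ⟨t₀ ^ (2 * j + 1), Invol.orderOf_eq_two (fun e => ?_) ?_, hmap⟩
  · rw [← hmap, e, map_one, orderOf_one] at ht
    omega
  · rw [← pow_two, ← pow_mul, mul_comm, pow_mul, ← hj, pow_orderOf_eq_one]

theorem commute_of_map {t y : G} (ht : orderOf t = 2)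
    (hc : Commute (QuotientGroup.mk' (center G) y) (QuotientGroup.mk' (center G) t)) :
    Commute y t := by
  set c := t⁻¹ * (y * t * y⁻¹) with hcdef
  have hcZ : c ∈ center G := by
    rw [← QuotientGroup.eq_one_iff, ← QuotientGroup.mk'_apply, hcdef]
    simp only [map_mul, map_inv, hc.eq, mul_inv_cancel_right, inv_mul_cancel]
  have h2 : (t * c) ^ 2 = 1 := by
    rw [hcdef, mul_inv_cancel_left, conj_pow, pow_two, Invol.mul_self_eq_one ht, mul_one,
      mul_inv_cancel]
  rw [Commute.mul_pow (mem_center_iff.mp hcZ t), pow_two t, Invol.mul_self_eq_one ht, one_mul]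
    at h2
  have hc1 : c = 1 := by
    rw [← orderOf_eq_one_iff]
    exact Nat.eq_one_of_dvd_coprimes (Nat.coprime_two_left.mpr (h.center_odd hcZ))
      (orderOf_dvd_of_pow_eq_one h2) dvd_rfl
  rw [hcdef, inv_mul_eq_one] at hc1
  exact mul_inv_eq_iff_eq_mul.mp hc1.symm

theorem quot : Hyp (P.mapSurjective (QuotientGroup.mk'_surjective (center G))) := by
  refine ⟨fun t ht => ?_, fun hcyc => ?_, fun hn => ?_⟩
  · obtain ⟨s, hs, rfl⟩ := h.exists_invol_lift ht
    refine ⟨⟨?_⟩⟩
    rintro ⟨x, hx⟩ ⟨y, hy⟩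
    obtain ⟨x, rfl⟩ := QuotientGroup.mk'_surjective (center G) x
    obtain ⟨y, rfl⟩ := QuotientGroup.mk'_surjective (center G) y
    refine Subtype.ext ((h.comm_cent hs (h.commute_of_map hs ?_) (h.commute_of_map hs ?_)).map
      (QuotientGroup.mk' (center G))).eq
    · exact mem_centralizer_singleton_iff.mp hx
    · exact mem_centralizer_singleton_iff.mp hy
  · rw [Sylow.coe_mapSurjective] at hcyc
    refine h.hnc (isCyclic_of_injective
      ((QuotientGroup.mk' (center G)).subgroupMap (P : Subgroup G)) fun a b e => ?_)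
    have e' : QuotientGroup.mk' (center G) (a : G) = QuotientGroup.mk' (center G) (b : G) :=
      congrArg Subtype.val e
    exact Subtype.ext (inv_mul_eq_one.mp (h.center_inf_P
      (QuotientGroup.eq.mp e') (mul_mem (inv_mem a.2) b.2)))
  · rw [Sylow.coe_mapSurjective] at hn
    refine h.hnn ⟨fun x hx g => ?_⟩
    obtain ⟨y, hy, e⟩ := hn.conj_mem _ (mem_map_of_mem _ hx) (QuotientGroup.mk' (center G) g)
    have hc : y⁻¹ * (g * x * g⁻¹) ∈ center G := QuotientGroup.eq.mp (by simpa using e)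
    have hN : g * x * g⁻¹ ∈ N := by
      have := mul_mem (le_normalizer hy) (A_le_N (h.center_le_A hc))
      simpa [mul_assoc] using this
    obtain ⟨k, hk⟩ := h.two_pow_of_mem hx
    exact mem_P_of_two_elem hN (k := k) (by rw [conj_pow, hk, mul_one, mul_inv_cancel])

theorem elemCent_quot (hc : Claim P) :
    SEmb.ElemCent (P.mapSurjective (QuotientGroup.mk'_surjective (center G))) := by
  refine ⟨h.quot.hnc, h.quot.hnn, fun t ht => ⟨h.quot.hab t ht, fun y hy => ?_⟩⟩
  obtain ⟨s, hs, rfl⟩ := h.exists_invol_lift ht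
  obtain ⟨y, rfl⟩ := QuotientGroup.mk'_surjective (center G) y
  have hys := h.commute_of_map hs (mem_centralizer_singleton_iff.mp hy)
  obtain ⟨z, hzP, hz, -⟩ := h.exists_central_invol
  obtain ⟨g, rfl⟩ := isConj_iff.mp (SEmb.isConj_invol h.stronglyEmbedded hz hs)
  have hA : g⁻¹ * y * g ∈ A := by
    rw [← h.centralizer_eq hzP hz]
    refine mem_centralizer_singleton_iff.mpr (Commute.eq ?_)
    simpa [mul_assoc] using hys.map (MulAut.conj g⁻¹)
  have hsq := hc.2 _ hA
  have e : g⁻¹ * y * g * (g⁻¹ * y * g) = y * y := by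
    have h2 := mem_center_iff.mp hsq g
    calc g⁻¹ * y * g * (g⁻¹ * y * g) =
        g * (g⁻¹ * y * g * (g⁻¹ * y * g)) * g⁻¹ := by rw [h2, mul_inv_cancel_right]
      _ = y * y := by simp [mul_assoc]
  rw [e] at hsq
  rw [← map_pow, QuotientGroup.mk'_apply, QuotientGroup.eq_one_iff, pow_two]
  exact hsq

/-! ### Passage to a subgroup -/

theorem restrict {M : Subgroup G} (hPM : (P : Subgroup G) ≤ M) (hM : ¬ M ≤ N) :
    Hyp (P.subtype hPM) := by
  refine ⟨fun t ht => ?_, fun hcyc => ?_, fun hn => ?_⟩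
  · refine ⟨⟨?_⟩⟩
    rintro ⟨x, hx⟩ ⟨y, hy⟩
    refine Subtype.ext (Subtype.ext (h.comm_cent (t := (t : G)) ?_ ?_ ?_).eq)
    · rw [orderOf_coe, ht]
    · exact (show Commute x t from mem_centralizer_singleton_iff.mp hx).map M.subtype
    · exact (show Commute y t from mem_centralizer_singleton_iff.mp hy).map M.subtype
  · rw [Sylow.coe_subtype] at hcyc
    exact h.hnc (isCyclic_of_surjective _ (subgroupOfEquivOfLe hPM).surjective)
  · rw [Sylow.coe_subtype] at hn
    refine hM fun m hm => ?_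
    rw [mem_normalizer_iff_map_conj_eq]
    refine eq_of_le_of_card_ge ?_ (card_map_of_injective (MulAut.conj m).injective).ge
    rintro _ ⟨x, hx, rfl⟩
    exact hn.conj_mem ⟨x, hPM hx⟩ hx ⟨m, hm⟩

theorem mem_centralizer_subtype {M : Subgroup G} (hPM : (P : Subgroup G) ≤ M) {a : G}
    (ha : a ∈ A) (haM : a ∈ M) :
    (⟨a, haM⟩ : M) ∈ centralizer ((P.subtype hPM : Subgroup M) : Set M) :=
  mem_centralizer_iff.mpr fun y hy => Subtype.ext (mem_centralizer_iff.mp ha (y : G) hy)

theorem odd_of_not_le {a : G} (ha : a ∈ A) (hC : ¬ centralizer ({a} : Set G) ≤ N) :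
    Odd (orderOf a) := by
  rw [← Nat.not_even_iff_odd]
  intro he
  obtain ⟨m, hm⟩ := he
  have hpos := orderOf_pos a
  have ht : orderOf (a ^ m) = 2 := by
    rw [orderOf_pow_of_dvd (by omega) ⟨2, by omega⟩, hm, show m + m = 2 * m by omega,
      Nat.mul_div_cancel _ (by omega)]
  refine hC fun x hx => A_le_N ?_
  rw [← h.centralizer_eq (mem_P_of_invol (pow_mem (A_le_N ha) m) ht) ht]
  exact mem_centralizer_singleton_iff.mpr
    ((show Commute x a from mem_centralizer_singleton_iff.mp hx).pow_right m).eq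

/-- With trivial centre, every centralizer of a nonidentity element of `C(P)` lies in `N(P)`. -/
theorem good_of_center_eq_bot (hZ : center G = ⊥)
    (IH : ∀ (M : Subgroup G) (Q : Sylow 2 M), M ≠ ⊤ → Hyp Q → Claim Q) : Good P := by
  classical
  by_contra hbad
  simp only [Good, not_forall] at hbad
  obtain ⟨a, ha, ha1, hCa⟩ := hbad
  obtain ⟨x, hxC, hxN⟩ := SetLike.not_le_iff_exists.mp hCa
  have hproper : ∀ e : G, e ≠ 1 → centralizer ({e} : Set G) ≠ ⊤ := fun e he htop =>
    he (mem_bot.mp (hZ ▸ mem_center_iff.mpr fun g =>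
      mem_centralizer_singleton_iff.mp (htop.ge (mem_top g))))
  obtain ⟨j, hj⟩ := h.odd_of_not_le ha hCa
  have haa : a = (a * a) ^ (j + 1) := by
    rw [← pow_two, ← pow_mul, show 2 * (j + 1) = orderOf a + 1 by omega, pow_succ,
      pow_orderOf_eq_one, one_mul]
  set M := centralizer ({a} : Set G) with hMdef
  have hAM : A ≤ M := h.A_le_cent ha
  have hPM : (P : Subgroup G) ≤ M := h.P_le_A.trans hAM
  have hMtop : M ≠ ⊤ := hproper a ha1
  -- the centralizers containing `M`
  have hC : ∀ e ∈ A, e ≠ 1 → M ≤ centralizer ({e} : Set G) → centralizer ({e} : Set G) = M := by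
    intro e he he1 hle
    refine le_antisymm (fun y hy => mem_centralizer_singleton_iff.mpr (Commute.eq ?_)) hle
    have hPe : (P : Subgroup G) ≤ centralizer ({e} : Set G) := hPM.trans hle
    have hHe := h.restrict hPe (fun hh => hCa (hle.trans hh))
    have hc := (IH _ (P.subtype hPe) (hproper e he1) hHe).2 _
      (h.mem_centralizer_subtype hPe ha (hle (hAM ha)))
    have hcomm : Commute y (a * a) :=
      congrArg Subtype.val (mem_center_iff.mp hc ⟨y, hy⟩)
    rw [haa]
    exact hcomm.pow_right _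
  have hHM := h.restrict hPM hCa
  have hclaim := IH M (P.subtype hPM) hMtop hHM
  -- `N(P) ≤ M`
  obtain ⟨u₀, hu₀, hu₀N⟩ := hHM.exists_invol_notMem_N
  have hu₀G : (u₀ : G) ∉ N := fun hh => hu₀N (mem_normalizer_iff.mpr fun y => by
    simpa [mem_subgroupOf] using mem_normalizer_iff.mp hh (y : G))
  have hNM : N ≤ M := h.N_le_of hAM (by rw [orderOf_coe, hu₀]) u₀.2 hu₀G
  obtain ⟨z, hzP, hz, -⟩ := h.exists_central_invol
  have hzM : z ∈ M := hPM hzP
  have hzM2 : orderOf (⟨z, hzM⟩ : M) = 2 := by rw [orderOf_mk, hz]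
  -- `M` is strongly embedded
  have hconjM : ∀ t ∈ M, orderOf t = 2 → ∃ m ∈ M, m * z * m⁻¹ = t := fun t ht ht2 => by
    obtain ⟨m, hm⟩ := isConj_iff.mp
      (SEmb.isConj_invol hHM.stronglyEmbedded hzM2
        (b := (⟨t, ht⟩ : M)) (by rw [orderOf_mk, ht2]))
    exact ⟨m, m.2, congrArg Subtype.val hm⟩
  have hfus : ∀ t ∈ M, orderOf t = 2 → ∀ g : G, g * t * g⁻¹ ∈ M → g ∈ M := by
    intro t ht ht2 g hg
    obtain ⟨m₁, hm₁, e₁⟩ := hconjM t ht ht2
    obtain ⟨m₂, hm₂, e₂⟩ := hconjM _ hg (by rw [Invol.orderOf_conj, ht2])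
    have hc : m₂⁻¹ * g * m₁ ∈ centralizer ({z} : Set G) := by
      rw [mem_centralizer_singleton_iff, ← mul_inv_eq_iff_eq_mul]
      calc m₂⁻¹ * g * m₁ * z * (m₂⁻¹ * g * m₁)⁻¹ = m₂⁻¹ * (g * (m₁ * z * m₁⁻¹) * g⁻¹) * m₂ := by
            simp [mul_assoc]
        _ = z := by rw [e₁, ← e₂]; simp [mul_assoc]
    rw [h.centralizer_eq hzP hz] at hc
    simpa [mul_assoc] using M.mul_mem (M.mul_mem hm₂ (hAM hc)) (M.inv_mem hm₁)
  have hse : Cfsg.IsStronglyEmbedded M := (Invol.isStronglyEmbedded_iff_fusion hMtop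
    (Invol.even_card_of_orderOf_two_mem hz hzM)).2 hfus
  -- an involution outside `M`
  obtain ⟨g, hgM⟩ : ∃ g : G, g ∉ M := by
    by_contra hh
    push Not at hh
    exact hMtop (eq_top_iff.mpr fun g _ => hh g)
  set u := g * z * g⁻¹ with hudef
  have hu : orderOf u = 2 := by rw [hudef, Invol.orderOf_conj, hz]
  have huM : u ∉ M := fun hh => hgM (hfus z hzM hz g hh)
  set x₀ : G ⧸ M := QuotientGroup.mk 1 with hx₀
  set y₀ : G ⧸ M := u • x₀ with hy₀
  -- involutions of `M`
  set Z := center M with hZdef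
  set π := QuotientGroup.mk' Z with hπ
  set T := (P.subtype hPM).mapSurjective (QuotientGroup.mk'_surjective Z) with hT
  have hq : SEmb.ElemCent T := hHM.elemCent_quot hclaim
  have hπz : orderOf (π ⟨z, hzM⟩) = 2 := by
    refine Invol.orderOf_eq_two (fun e => hHM.invol_ne_center hzM2 ?_) ?_
    · exact (QuotientGroup.eq_one_iff _).mp e
    · rw [← map_mul, Invol.mul_self_eq_one hzM2, map_one]
  have hπzT : π ⟨z, hzM⟩ ∈ (T : Subgroup (M ⧸ Z)) := mem_map_of_mem _ hzP
  have hswap : Nat.card (SEmb.Swap x₀ y₀) = (T : Subgroup (M ⧸ Z)).index := by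
    rw [SEmb.card_swap hse]
    have e1 : Nat.card (SEmb.Swap x₀ x₀) = Nat.card {t : M // IsConj (⟨z, hzM⟩ : M) t} := by
      refine Nat.card_congr
        { toFun := fun t => ⟨⟨t.1, (SEmb.smul_one_eq_iff t.1).mp t.2.2⟩,
            SEmb.isConj_invol hHM.stronglyEmbedded hzM2 (by rw [orderOf_mk]; exact t.2.1)⟩
          invFun := fun t => ⟨t.1.1, ?_, (SEmb.smul_one_eq_iff t.1.1).mpr t.1.2⟩
          left_inv := fun t => rfl
          right_inv := fun t => rfl }
      obtain ⟨m, hm⟩ := isConj_iff.mp t.2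
      rw [orderOf_coe, ← hm, Invol.orderOf_conj, hzM2]
    have e2 : centralizer ({(⟨z, hzM⟩ : M)} : Set M) =
        (centralizer ({π ⟨z, hzM⟩} : Set (M ⧸ Z))).comap π := by
      ext y
      rw [mem_comap, mem_centralizer_singleton_iff_commute, mem_centralizer_singleton_iff_commute]
      exact ⟨fun hh => hh.map π, fun hh => hHM.commute_of_map hzM2 hh⟩
    rw [e1, ← Char.index_centralizer_eq_card_isConj, e2,
      index_comap_of_surjective _ (QuotientGroup.mk'_surjective Z), hq.centralizer_eq hπzT hπz]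
  -- the image of the two-point stabilizer
  set D₀ := (M ⊓ M.map (MulAut.conj u).toMonoidHom).subgroupOf M with hD₀
  set D := D₀.map π with hD
  have hDodd : Odd (Nat.card D) := by
    refine (hse.2.2 u huM).of_dvd_nat ?_
    rw [← Nat.card_congr (subgroupOfEquivOfLe
      (inf_le_left : M ⊓ M.map (MulAut.conj u).toMonoidHom ≤ M)).toEquiv]
    exact card_map_dvd D₀ π
  have hux : u • x₀ = y₀ := rfl
  have huy : u • y₀ = x₀ := (SEmb.smul_invol_eq_iff hu _ _).mp hux
  have hy₀' : y₀ = QuotientGroup.mk u := by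
    rw [hy₀, hx₀, Quotient.smul_mk, smul_eq_mul, mul_one]
  have hmem : ∀ w : SEmb.Swap x₀ y₀, u * w.1 ∈ M ⊓ M.map (MulAut.conj u).toMonoidHom := by
    intro w
    rw [SEmb.mem_inter_iff, ← hx₀, ← hy₀']
    exact ⟨by rw [← smul_smul, w.2.2, huy],
      by rw [← smul_smul, (SEmb.smul_invol_eq_iff w.2.1 _ _).mp w.2.2, hux]⟩
  let f : SEmb.Swap x₀ y₀ → D := fun w =>
    ⟨π ⟨u * w.1, (hmem w).1⟩, mem_map_of_mem _ (hmem w)⟩
  have hf : Function.Injective f := by
    rintro w w' e
    have e' : π ⟨u * w.1, (hmem w).1⟩ = π ⟨u * w'.1, (hmem w').1⟩ := congrArg Subtype.val e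
    have hce : (⟨u * w.1, (hmem w).1⟩ : M)⁻¹ * ⟨u * w'.1, (hmem w').1⟩ ∈ Z :=
      QuotientGroup.eq.mp e'
    set ε : M := (⟨u * w.1, (hmem w).1⟩ : M)⁻¹ * ⟨u * w'.1, (hmem w').1⟩ with hε
    have hεv : (ε : G) = w.1 * w'.1 := by
      rw [hε, Subgroup.coe_mul, Subgroup.coe_inv]
      show (u * w.1)⁻¹ * (u * w'.1) = _
      rw [mul_inv_rev, mul_assoc, inv_mul_cancel_left, Invol.inv_eq_self w.2.1]
    by_cases hε1 : (ε : G) = 1
    · rw [hεv] at hε1
      exact Subtype.ext ((eq_inv_of_mul_eq_one_left hε1).trans (Invol.inv_eq_self w'.2.1))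
    exfalso
    have hεcomm : ∀ m ∈ M, Commute (ε : G) m := fun m hm =>
      (congrArg Subtype.val (mem_center_iff.mp hce ⟨m, hm⟩)).symm
    have hεA : (ε : G) ∈ A := mem_centralizer_iff.mpr fun y hy => (hεcomm y (hPM hy)).eq.symm
    have hCε := hC _ hεA hε1 fun m hm =>
      mem_centralizer_singleton_iff.mpr (hεcomm m hm).symm.eq
    have hwi : w.1 * (ε : G) * w.1⁻¹ = (ε : G)⁻¹ := by
      rw [hεv, ← mul_assoc, Invol.mul_self_eq_one w.2.1, one_mul, mul_inv_rev,
        Invol.inv_eq_self w.2.1, Invol.inv_eq_self w'.2.1]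
    have hwz : w.1 * z * w.1⁻¹ ∈ M := by
      refine hCε.le (mem_centralizer_singleton_iff.mpr ?_)
      have hc := (hεcomm z hzM).symm.map (MulAut.conj w.1)
      simp only [MulAut.conj_apply, hwi] at hc
      exact (by simpa using hc.inv_right : Commute (w.1 * z * w.1⁻¹) (ε : G)).eq
    have hwM : w.1 ∈ M := hfus z hzM hz _ hwz
    have e0 : w.1 • x₀ = x₀ := (SEmb.smul_one_eq_iff w.1).mpr hwM
    exact huM ((SEmb.smul_one_eq_iff u).mp (w.2.2.symm.trans e0))
  have hle := Nat.card_le_card_of_injective f hf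
  rw [hswap] at hle
  have hdvd : Nat.card D ∣ (T : Subgroup (M ⧸ Z)).index := by
    obtain ⟨k, hk⟩ := T.isPGroup'.exists_card_eq
    refine Nat.Coprime.dvd_of_dvd_mul_left (((Nat.coprime_two_right.mpr hDodd).pow_right k)) ?_
    rw [← hk, card_mul_index]
    exact card_subgroup_dvd_card D
  exact hq.no_odd_complement D hDodd
    (le_antisymm (Nat.le_of_dvd (Nat.pos_of_ne_zero index_ne_zero_of_finite) hdvd) hle)

end Hyp

/-- The main theorem. -/
theorem claim (h : Hyp P) : Claim P := by
  suffices H : ∀ (n : ℕ) (G : Type u) [Group G] [Finite G] (P : Sylow 2 G),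
      Nat.card G = n → Hyp P → Claim P from H _ G P rfl h
  intro n
  induction n using Nat.strong_induction_on with
  | _ n IH =>
    intro G _ _ P hn h
    by_cases hZ : center G = ⊥
    · have hg := h.good_of_center_eq_bot hZ fun M Q hM hQ => IH (Nat.card M)
        (hn ▸ lt_of_le_of_ne (card_le_card_group M) fun e => hM (eq_top_of_card_eq M e)) M Q rfl hQ
      exact ⟨fun x hx => h.sq_eq_one_of_good hg (h.P_le_A hx),
        fun a ha => (h.sq_eq_one_of_good hg ha).symm ▸ one_mem _⟩
    · have hlt : Nat.card (G ⧸ center G) < n := by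
        rw [← hn, card_eq_card_quotient_mul_card_subgroup (center G)]
        exact lt_mul_of_one_lt_right Nat.card_pos ((center G).one_lt_card_iff_ne_bot.mpr hZ)
      obtain ⟨h1, h2⟩ := IH _ hlt (G ⧸ center G) _ rfl h.quot
      rw [Sylow.coe_mapSurjective] at h1
      refine ⟨fun x hx => ?_, fun a ha => ?_⟩
      · refine h.center_inf_P ?_ (mul_mem hx hx)
        rw [← QuotientGroup.eq_one_iff]
        exact h1 _ (mem_map_of_mem (QuotientGroup.mk' (center G)) hx)
      · have haQ : QuotientGroup.mk' (center G) a ∈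
            centralizer ((P.mapSurjective (QuotientGroup.mk'_surjective (center G)) :
              Subgroup (G ⧸ center G)) : Set (G ⧸ center G)) := by
          rw [Sylow.coe_mapSurjective, mem_centralizer_iff]
          rintro _ ⟨y, hy, rfl⟩
          exact ((Hyp.commute_mem ha hy).symm.map (QuotientGroup.mk' (center G))).eq
        have hb := h2 _ haQ
        set b := a * a with hbdef
        have hc : ∀ g : G, b⁻¹ * (g⁻¹ * b * g) ∈ center G := fun g => by
          rw [← QuotientGroup.eq_one_iff]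
          have e := mem_center_iff.mp hb (QuotientGroup.mk' (center G) g)⁻¹
          simp only [QuotientGroup.mk'_apply] at e
          simp only [QuotientGroup.mk_mul, QuotientGroup.mk_inv, hbdef] at e ⊢
          rw [e]
          simp
        have hK : (centralizer ({b} : Set G)).Normal := ⟨fun k hk g => by
          have h3 : Commute k (g⁻¹ * b * g) := by
            have h4 : g⁻¹ * b * g = b * (b⁻¹ * (g⁻¹ * b * g)) := by rw [mul_inv_cancel_left]
            rw [h4]
            exact (show Commute k b from mem_centralizer_singleton_iff.mp hk).mul_right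
              (mem_center_iff.mp (hc g) k)
          have h5 := h3.map (MulAut.conj g)
          refine mem_centralizer_singleton_iff.mpr (Commute.eq ?_)
          simpa [mul_assoc] using h5⟩
        have htop := h.eq_top_of_normal (K := centralizer ({b} : Set G))
          (h.A_le_cent (mul_mem ha ha))
        exact mem_center_iff.mpr fun g =>
          mem_centralizer_singleton_iff.mp (htop.ge (mem_top g))

end CfsgLib.AbInvCent
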