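import Cfsg.Agent.Lib.AbInvCent.Basic
import Mathlib.GroupTheory.Perm.Cycle.Type

/-!
# Abelian involution centralizers: `C(P)` is self-centralizing when its centralizers lie in `N(P)`
-/

set_option autoImplicit false
set_option linter.unusedSectionVars false

namespace CfsgLib.AbInvCent

open MulAction Subgroup CfsgLib
open scoped commutatorElement

variable {G : Type*} [Group G] [Finite G] {P : Sylow 2 G}

local notation "A" => centralizer (((P : Subgroup G)) : Set G)
local notation "N" => normalizer ((P : Subgroup G) : Set G)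
local notation "o" => (QuotientGroup.mk 1 : G ⧸ normalizer ((P : Subgroup G) : Set G))

/-- The centralizers of the nonidentity elements of `C(P)` lie in `N(P)`. -/
def Good (P : Sylow 2 G) : Prop :=
  ∀ a ∈ centralizer ((P : Subgroup G) : Set G), a ≠ 1 →
    centralizer ({a} : Set G) ≤ normalizer ((P : Subgroup G) : Set G)

namespace Hyp

variable (h : Hyp P) (hg : Good P)
include h hg

/-- An involution inverting a nonidentity element of `C(P)` normalizes `P`. -/
theorem mem_N_of_inverts {x v : G} (hx : x ∈ A) (hx1 : x ≠ 1)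
    (hi : v * x * v⁻¹ = x⁻¹) : v ∈ N := by
  have hP : ∀ y ∈ (P : Subgroup G), v * y * v⁻¹ ∈ (P : Subgroup G) := fun y hy => by
    have hyx : Commute (v * y * v⁻¹) x := by
      have hc : Commute (v * y * v⁻¹) (v * x * v⁻¹) := (commute_mem hx hy).symm.map (MulAut.conj v)
      rw [hi] at hc
      simpa using hc.inv_right
    obtain ⟨k, hk⟩ := h.two_pow_of_mem hy
    exact mem_P_of_two_elem (hg x hx hx1 (mem_centralizer_singleton_iff.mpr hyx.eq)) (k := k)
      (by rw [conj_pow, hk, mul_one, mul_inv_cancel])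
  rw [mem_normalizer_iff_map_conj_eq]
  exact eq_of_le_of_card_ge (fun _ ⟨y, hy, e⟩ => e ▸ hP y hy)
    (card_map_of_injective (MulAut.conj v).injective).ge

/-- A `2`-element fixing a point whose Sylow group contains it fixes no other point. -/
theorem eq_one_of_two_fix {c g : G} (hc : g⁻¹ * c * g ∈ (P : Subgroup G)) {x y : G ⧸ N}
    (hxy : x ≠ y) (hx : c • x = x) (hy : c • y = y) : c = 1 := by
  by_contra h1
  obtain ⟨k, hk⟩ := h.two_pow_of_mem hc
  have hk' : c ^ 2 ^ k = 1 := by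
    have e : c = g * (g⁻¹ * c * g) * g⁻¹ := by simp [mul_assoc]
    rw [e, conj_pow, hk, mul_one, mul_inv_cancel]
  obtain ⟨j, -, hj⟩ := (Nat.dvd_prime_pow Nat.prime_two).1 (orderOf_dvd_of_pow_eq_one hk')
  obtain ⟨i, rfl⟩ : ∃ i, j = i + 1 := ⟨j - 1, by
    rcases Nat.eq_zero_or_pos j with rfl | hj0
    · exact absurd (orderOf_eq_one_iff.mp (by simpa using hj)) h1
    · omega⟩
  have ho : orderOf (c ^ 2 ^ i) = 2 := by
    rw [orderOf_pow_of_dvd (by positivity) (by rw [hj]; exact pow_dvd_pow 2 (Nat.le_succ i)), hj,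
      pow_succ, Nat.mul_div_cancel_left _ (by positivity)]
  exact hxy (SEmb.point_unique h.stronglyEmbedded ho
    (mem_stabilizer_iff.mp (pow_mem (mem_stabilizer_iff.mpr hx) _))
    (mem_stabilizer_iff.mp (pow_mem (mem_stabilizer_iff.mpr hy) _)))

/-- A nonidentity element of `C(P)` fixes only the base point. -/
theorem semiregular {e : G} (he : e ∈ A) (he1 : e ≠ 1) {R : G ⧸ N} (heR : e • R = R) :
    R = o := by
  by_contra hR
  obtain ⟨v, hv, hvo⟩ := invol_exists_swap h.stronglyEmbedded hR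
  have hvR : v • R = o := (SEmb.smul_invol_eq_iff hv _ _).mp hvo
  have hvN : v ∉ N := fun hn => hR (hvo ▸ fix_o_iff.mpr hn)
  have hv2 := Invol.mul_self_eq_one hv
  have hvi := Invol.inv_eq_self hv
  have heo : e • o = o := fix_o_iff.mpr (A_le_N he)
  set e' := v * e * v⁻¹ with he'
  have he'o : e' • o = o := by rw [he', ← smul_smul, ← smul_smul, hvi, hvo, heR, hvR]
  have he'R : e' • R = R := by rw [he', ← smul_smul, ← smul_smul, hvi, hvR, heo, hvo]
  -- elements of `C(P)` whose conjugate by `v` is in `C(P)` and which fix `R` are trivial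
  have key : ∀ x ∈ A, v * x * v⁻¹ ∈ A → x = 1 := by
    intro x hx hx'
    by_contra hx1
    have hcv : Commute v (x * (v * x * v⁻¹)) := by
      show v * (x * (v * x * v⁻¹)) = x * (v * x * v⁻¹) * v
      have hxv := (h.comm_A hx' hx).eq
      rw [hvi] at hxv ⊢
      calc v * (x * (v * x * v)) = (v * x * v) * x * v := by simp [mul_assoc]
        _ = x * (v * x * v) * v := by rw [hxv]
    rcases eq_or_ne (x * (v * x * v⁻¹)) 1 with h1 | h1
    · exact hvN (h.mem_N_of_inverts hg hx hx1 (eq_inv_of_mul_eq_one_right h1))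
    · exact hvN (hg _ (mul_mem hx hx') h1 (mem_centralizer_singleton_iff.mpr hcv.eq))
  have hee' : Commute e e' := by
    rw [← commutatorElement_eq_one_iff_commute]
    refine key _ ?_ ?_
    · rw [commutatorElement_def, mul_assoc, mul_assoc, ← mul_assoc e']
      exact mul_mem he (conj_mem_A (fix_o_iff.mp he'o) (inv_mem he))
    · have hh : v * ⁅e, e'⁆ * v⁻¹ = ⁅e', e⁆ := by
        have h2 : v * e' * v⁻¹ = e := by
          rw [he', hvi, ← mul_assoc, ← mul_assoc, hv2, one_mul, mul_assoc, hv2, mul_one]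
        rw [← MulAut.conj_apply v, map_commutatorElement, MulAut.conj_apply, MulAut.conj_apply,
          h2, ← he']
      rw [hh, commutatorElement_def]
      exact mul_mem (conj_mem_A (fix_o_iff.mp he'o) he) (inv_mem he)
  have hvf : Commute v (e * e') := by
    show v * (e * e') = e * e' * v
    have h2 : v * (e * e') = e' * e * v := by
      rw [he', hvi]
      simp [mul_assoc]
    rw [h2, hee'.symm.eq]
  rcases eq_or_ne (e * e') 1 with h1 | h1
  · exact hvN (h.mem_N_of_inverts hg he he1 (eq_inv_of_mul_eq_one_right h1))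
  -- the fixed point of `v`
  obtain ⟨S, hS⟩ := SEmb.exists_fix h.stronglyEmbedded hv
  obtain ⟨g, rfl⟩ := QuotientGroup.mk_surjective S
  have hvP : g⁻¹ * v * g ∈ (P : Subgroup G) :=
    mem_P_of_invol ((SEmb.smul_mk_eq_iff v g).mp hS)
      (by simpa [hv] using Invol.orderOf_conj g⁻¹ v)
  have hfA : g⁻¹ * (e * e') * g ∈ A := by
    rw [← h.centralizer_eq hvP (by simpa [hv] using Invol.orderOf_conj g⁻¹ v)]
    refine mem_centralizer_singleton_iff.mpr (Commute.eq ?_)
    simpa using (hvf.symm.map (MulAut.conj g⁻¹))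
  have hf1 : g⁻¹ * (e * e') * g ≠ 1 := fun h2 => h1 (by
    have := congrArg (fun w => g * w * g⁻¹) h2; simpa [mul_assoc] using this)
  have heS : g⁻¹ * e * g ∈ N := by
    refine hg _ hfA hf1 (mem_centralizer_singleton_iff.mpr (Commute.eq ?_))
    simpa using (((Commute.refl e).mul_right hee').map (MulAut.conj g⁻¹))
  have hcP : g⁻¹ * (e * (v * e⁻¹ * v⁻¹)) * g ∈ (P : Subgroup G) := by
    have e1 : g⁻¹ * (e * (v * e⁻¹ * v⁻¹)) * g =
        (g⁻¹ * e * g) * (g⁻¹ * v * g) * (g⁻¹ * e * g)⁻¹ * (g⁻¹ * v * g)⁻¹ := by simp [mul_assoc]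
    rw [e1]
    exact mul_mem ((mem_normalizer_iff.mp heS _).mp hvP) (inv_mem hvP)
  have hc1 := h.eq_one_of_two_fix hg hcP (x := o) (y := R) (Ne.symm hR)
    (by
      rw [show v * e⁻¹ * v⁻¹ = e'⁻¹ by rw [he']; simp [mul_assoc], ← smul_smul,
        inv_smul_eq_iff.mpr he'o.symm, heo])
    (by
      rw [show v * e⁻¹ * v⁻¹ = e'⁻¹ by rw [he']; simp [mul_assoc], ← smul_smul,
        inv_smul_eq_iff.mpr he'R.symm, heR])
  have hce : Commute v e := by
    have h3 : v * e * v⁻¹ = e := by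
      have := eq_inv_of_mul_eq_one_left hc1
      conv_rhs => rw [this]
      simp [mul_assoc]
    exact mul_inv_eq_iff_eq_mul.mp h3
  exact hvN (hg e he he1 (mem_centralizer_singleton_iff.mpr hce.eq))

/-- Every element of `N(P)` is, modulo `C(P)`, an element fixing `R` inverted by the swap `v`. -/
theorem exists_inverted {R : G ⧸ N} (hR : R ≠ o) {v : G} (hv : orderOf v = 2) (hvo : v • o = R)
    {n : G} (hn : n ∈ N) :
    ∃ d : G, d • o = o ∧ d • R = R ∧ v * d * v⁻¹ = d⁻¹ ∧ d⁻¹ * n ∈ A := by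
  classical
  obtain ⟨z, hzP, hz, -⟩ := h.exists_central_invol
  have hvR : v • R = o := (SEmb.smul_invol_eq_iff hv _ _).mp hvo
  have hfix : ∀ w : G, orderOf w = 2 → w • o = R → (v * w) • o = o ∧ (v * w) • R = R :=
    fun w hw hwo => ⟨by rw [← smul_smul, hwo, hvR],
      by rw [← smul_smul, (SEmb.smul_invol_eq_iff hw _ _).mp hwo, hvo]⟩
  let f : SEmb.Swap o R → SEmb.Swap o o := fun w =>
    ⟨v * w.1 * z * (v * w.1)⁻¹, by rw [Invol.orderOf_conj, hz], by
      rw [← smul_smul, ← smul_smul, inv_smul_eq_iff.mpr (hfix _ w.2.1 w.2.2).1.symm,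
        (invol_fix_o_iff hz).mpr hzP, (hfix _ w.2.1 w.2.2).1]⟩
  have hf : Function.Injective f := by
    rintro ⟨a, ha, hao⟩ ⟨b, hb, hbo⟩ e
    have e' : v * a * z * (v * a)⁻¹ = v * b * z * (v * b)⁻¹ := congrArg Subtype.val e
    have hc : Commute (b * a) z := by
      have e2 := congrArg (fun u => b * v⁻¹ * u * (v * a)) e'
      simp only [mul_inv_rev, mul_assoc, Invol.inv_eq_self hv, Invol.inv_eq_self ha,
        Invol.inv_eq_self hb] at e2
      simp only [← mul_assoc, Invol.mul_self_eq_one hv, Invol.mul_self_eq_one hb, one_mul]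
        at e2
      simp only [mul_assoc, Invol.mul_self_eq_one ha, mul_one] at e2
      simp only [← mul_assoc] at e2
      simpa [Commute, SemiconjBy, mul_assoc] using e2
    have hA : b * a ∈ A := by
      rw [← h.centralizer_eq hzP hz]; exact mem_centralizer_singleton_iff.mpr hc.eq
    have hfixR : (b * a) • R = R := by
      rw [← smul_smul, (SEmb.smul_invol_eq_iff ha _ _).mp hao, hbo]
    by_cases h1 : b * a = 1
    · refine Subtype.ext ?_
      exact ((eq_inv_of_mul_eq_one_right h1).trans (Invol.inv_eq_self hb))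
    · exact absurd (h.semiregular hg hA h1 hfixR) hR
  have hn' : n * z * n⁻¹ ∈ (P : Subgroup G) := (mem_normalizer_iff.mp hn z).mp hzP
  have hn2 : orderOf (n * z * n⁻¹) = 2 := by rw [Invol.orderOf_conj, hz]
  obtain ⟨⟨w, hw, hwo⟩, hwe⟩ := ((Nat.bijective_iff_injective_and_card f).mpr
    ⟨hf, SEmb.card_swap h.stronglyEmbedded _ _⟩).2 ⟨_, hn2, (invol_fix_o_iff hn2).mpr hn'⟩
  refine ⟨v * w, (hfix w hw hwo).1, (hfix w hw hwo).2, ?_, ?_⟩
  · rw [Invol.inv_eq_self hv, mul_inv_rev, Invol.inv_eq_self hw, Invol.inv_eq_self hv,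
      ← mul_assoc v v w, Invol.mul_self_eq_one hv, one_mul]
  · rw [← h.centralizer_eq hzP hz, mem_centralizer_singleton_iff, ← mul_inv_eq_iff_eq_mul]
    have hwe' : v * w * z * (v * w)⁻¹ = n * z * n⁻¹ := congrArg Subtype.val hwe
    calc (v * w)⁻¹ * n * z * ((v * w)⁻¹ * n)⁻¹ = (v * w)⁻¹ * (n * z * n⁻¹) * (v * w) := by
          simp [mul_assoc]
      _ = z := by rw [← hwe']; simp [mul_assoc]

/-- `C(P)` is the centralizer of each of its nonidentity elements. -/
theorem centralizer_eq_A {a : G} (ha : a ∈ A) (ha1 : a ≠ 1) :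
    centralizer ({a} : Set G) = A := by
  classical
  refine le_antisymm (fun x hx => ?_) (h.A_le_cent ha)
  obtain ⟨R, hR⟩ := h.exists_ne_o
  obtain ⟨v, hv, hvo⟩ := invol_exists_swap h.stronglyEmbedded hR
  obtain ⟨d, hdo, hdR, hdi, hda⟩ := h.exists_inverted hg hR hv hvo (hg a ha ha1 hx)
  rcases eq_or_ne d 1 with rfl | hd1
  · simpa using hda
  exfalso
  have hdc : Commute d a := by
    have h1 : Commute (x * (d⁻¹ * x)⁻¹) a :=
      (show Commute x a from mem_centralizer_singleton_iff.mp hx).mul_left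
        ((h.comm_A hda ha).inv_left)
    simpa [mul_assoc] using h1
  set M := centralizer ({d} : Set G) with hM
  -- `M` has odd order
  have hMod : Odd (Nat.card M) := by
    rw [← Nat.not_even_iff_odd]
    intro he
    obtain ⟨t, htM, ht⟩ := Invol.exists_orderOf_two_of_even_card he
    obtain ⟨S, hS⟩ := SEmb.exists_fix h.stronglyEmbedded ht
    obtain ⟨g, rfl⟩ := QuotientGroup.mk_surjective S
    have ht2 : orderOf (g⁻¹ * t * g) = 2 := by simpa [ht] using Invol.orderOf_conj g⁻¹ t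
    have htP := mem_P_of_invol ((SEmb.smul_mk_eq_iff t g).mp hS) ht2
    have hdA : g⁻¹ * d * g ∈ A := by
      rw [← h.centralizer_eq htP ht2]
      refine mem_centralizer_singleton_iff.mpr (Commute.eq ?_)
      simpa using ((show Commute t d from mem_centralizer_singleton_iff.mp htM).symm.map
        (MulAut.conj g⁻¹))
    have hd1' : g⁻¹ * d * g ≠ 1 := fun e => hd1 (by
      have := congrArg (fun w => g * w * g⁻¹) e; simpa [mul_assoc] using this)
    have key : ∀ y : G ⧸ N, d • y = y → g⁻¹ • y = o := fun y hy =>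
      h.semiregular hg hdA hd1' (by rw [← smul_smul, ← smul_smul, smul_inv_smul, hy])
    exact hR (smul_left_cancel g⁻¹ ((key _ hdR).trans (key _ hdo).symm))
  have hvM : ∀ m ∈ M, v * m * v⁻¹ ∈ M := fun m hm => by
    have hc := (show Commute m d from mem_centralizer_singleton_iff.mp hm).map (MulAut.conj v)
    simp only [MulAut.conj_apply, hdi] at hc
    exact mem_centralizer_singleton_iff.mpr (by simpa using hc.inv_right.eq)
  have hfixd : ∀ m ∈ M, d • m • o = m • o := fun m hm => by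
    rw [smul_smul, ← (show Commute m d from mem_centralizer_singleton_iff.mp hm).eq, ← smul_smul,
      hdo]
  -- `v` fixes no point fixed by `d`
  have hvfree : ∀ S : G ⧸ N, d • S = S → v • S ≠ S := by
    intro S hdS hvS
    obtain ⟨g, rfl⟩ := QuotientGroup.mk_surjective S
    have hv2 : orderOf (g⁻¹ * v * g) = 2 := by simpa [hv] using Invol.orderOf_conj g⁻¹ v
    have hvP := mem_P_of_invol ((SEmb.smul_mk_eq_iff v g).mp hvS) hv2
    have hsq : d * v * d⁻¹ * v⁻¹ = d * d := by
      calc d * v * d⁻¹ * v⁻¹ = d * (v * d * v⁻¹)⁻¹ := by simp [mul_assoc]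
        _ = d * d := by rw [hdi, inv_inv]
    have hcP : g⁻¹ * (d * d) * g ∈ (P : Subgroup G) := by
      rw [← hsq, show g⁻¹ * (d * v * d⁻¹ * v⁻¹) * g = (g⁻¹ * d * g) * (g⁻¹ * v * g) *
        (g⁻¹ * d * g)⁻¹ * (g⁻¹ * v * g)⁻¹ by simp [mul_assoc]]
      exact mul_mem ((mem_normalizer_iff.mp ((SEmb.smul_mk_eq_iff d g).mp hdS) _).mp hvP)
        (inv_mem hvP)
    have hdd := h.eq_one_of_two_fix hg hcP (Ne.symm hR) (by rw [← smul_smul, hdo, hdo])
      (by rw [← smul_smul, hdR, hdR])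
    exact hR (SEmb.point_unique h.stronglyEmbedded (Invol.orderOf_eq_two hd1 hdd) hdR hdo)
  -- the two orbits of `M`
  let O : Type _ := ↥(MulAction.orbit M o)
  have : Fintype O := Fintype.ofFinite _
  have hOodd : Odd (Fintype.card O) := by
    rw [← Nat.card_eq_fintype_card]
    exact Odd.of_dvd_nat hMod (Dvd.intro _ ((Nat.card_prod _ _).symm.trans
      (Nat.card_congr (orbitProdStabilizerEquivGroup M o))))
  have hmem : ∀ y : O, ∃ m ∈ M, m • o = (y : G ⧸ N) := fun ⟨y, m, hm⟩ => ⟨m.1, m.2, hm⟩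
  have hnot : ∀ y : O, ∀ m ∈ M, v • (y : G ⧸ N) ≠ m • o := by
    intro y m hm e
    obtain ⟨m₀, hm₀, hy⟩ := hmem y
    have hRO : ∃ m₁ ∈ M, m₁ • o = R := by
      refine ⟨(v * m₀ * v⁻¹)⁻¹ * m, mul_mem (inv_mem (hvM _ hm₀)) hm, ?_⟩
      rw [← smul_smul, ← e, ← hy]
      calc (v * m₀ * v⁻¹)⁻¹ • v • m₀ • o = v • o := by simp [mul_assoc]
        _ = R := hvo
    obtain ⟨m₁, hm₁, hR1⟩ := hRO
    have hpres : ∀ z : O, v • (z : G ⧸ N) ∈ MulAction.orbit M o := fun z => by
      obtain ⟨m₂, hm₂, hz⟩ := hmem z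
      refine ⟨⟨v * m₂ * v⁻¹ * m₁, mul_mem (hvM _ hm₂) hm₁⟩, ?_⟩
      show (v * m₂ * v⁻¹ * m₁) • o = v • (z : G ⧸ N)
      rw [← hz, ← smul_smul, hR1, ← hvo, smul_smul, smul_smul, inv_mul_cancel_right]
    have hinv : Function.Involutive (fun z : O => (⟨v • (z : G ⧸ N), hpres z⟩ : O)) := fun z =>
      Subtype.ext (SEmb.smul_invol_eq_iff hv _ _ |>.mp rfl)
    obtain ⟨z, hz⟩ := Equiv.Perm.exists_fixed_point_of_prime (p := 2) (n := 1)
      (fun h2 => Nat.not_even_iff_odd.mpr hOodd (even_iff_two_dvd.mpr h2))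
      (σ := hinv.toPerm _) (by ext z; simp [pow_two, hinv z])
    obtain ⟨m₂, hm₂, hz2⟩ := hmem z
    exact hvfree z (hz2 ▸ hfixd m₂ hm₂) (congrArg Subtype.val hz)
  -- a prime power of `a`
  obtain ⟨p, hp, hpa⟩ := Nat.exists_prime_and_dvd (mt orderOf_eq_one_iff.mp ha1)
  have := Fact.mk hp
  set b := a ^ (orderOf a / p) with hb
  have hbo' : orderOf b = p := by
    rw [hb, orderOf_pow_of_dvd (Nat.div_pos (Nat.le_of_dvd (orderOf_pos a) hpa) hp.pos).ne'
      (Nat.div_dvd_of_dvd hpa), Nat.div_div_self hpa (orderOf_pos a).ne']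
  have hbA : b ∈ A := pow_mem ha _
  have hbM : b ∈ M := mem_centralizer_singleton_iff.mpr (hdc.symm.pow_left _).eq
  have hb1 : b ≠ 1 := fun e => hp.ne_one (by rw [← hbo', e, orderOf_one])
  have hbo : b • o = o := fix_o_iff.mpr (A_le_N hbA)
  have hbfix : ∀ y : G ⧸ N, b • y = y → y = o := fun y hy => h.semiregular hg hbA hb1 hy
  have hbp : b ^ p = 1 := by rw [← hbo', pow_orderOf_eq_one]
  by_cases hdvd : p ∣ Fintype.card O
  · let σ : Equiv.Perm O := MulAction.toPerm (⟨b, hbM⟩ : M)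
    have hσ : σ ^ p ^ 1 = 1 := by
      rw [pow_one]
      refine ((map_pow (MulAction.toPermHom M O) (⟨b, hbM⟩ : M) p).symm.trans ?_)
      rw [show (⟨b, hbM⟩ : M) ^ p = 1 from Subtype.ext hbp, map_one]
    obtain ⟨y, hy, hne⟩ := Equiv.Perm.exists_fixed_point_of_prime' (p := p) hdvd hσ
      (a := ⟨o, mem_orbit_self o⟩) (Subtype.ext hbo)
    exact hne (Subtype.ext (hbfix _ (congrArg Subtype.val hy)))
  · -- conjugate `b` by `v`
    have hb' : v * b * v⁻¹ ∈ M := hvM b hbM
    let σ : Equiv.Perm O := MulAction.toPerm (⟨v * b * v⁻¹, hb'⟩ : M)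
    have hσ : σ ^ p ^ 1 = 1 := by
      rw [pow_one]
      refine ((map_pow (MulAction.toPermHom M O) (⟨v * b * v⁻¹, hb'⟩ : M) p).symm.trans ?_)
      rw [show (⟨v * b * v⁻¹, hb'⟩ : M) ^ p = 1 from
        Subtype.ext (by simp [conj_pow, hbp]), map_one]
    obtain ⟨y, hy⟩ := Equiv.Perm.exists_fixed_point_of_prime (p := p) hdvd hσ
    have hy' : (v * b * v⁻¹) • (y : G ⧸ N) = y := congrArg Subtype.val hy
    have : b • v • (y : G ⧸ N) = v • y := by
      have h2 := congrArg (v • ·) hy'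
      simp only [smul_smul, ← mul_assoc, Invol.mul_self_eq_one hv, one_mul,
        Invol.inv_eq_self hv] at h2
      rw [smul_smul]; exact h2
    exact hnot y 1 (one_mem M) (by rw [one_smul]; exact hbfix _ this)

end Hyp

end CfsgLib.AbInvCent
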