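import Cfsg.Agent.Lib.AbInvCent.Main
import Cfsg.Agent.Lib.Schur.SL2
import Cfsg.Agent.Lib.Schur.Multiplier
import Cfsg.Agent.Lib.Linear.Transvection
import Mathlib.GroupTheory.NoncommCoprod

/-!
# Groups with abelian involution centralizers: `SL(2, 2^n) × A`
-/

set_option autoImplicit false
set_option linter.unusedSectionVars false

namespace CfsgLib.AbInvCent

open Subgroup CfsgLib

universe u

variable {G : Type u} [Group G] [Finite G] {P : Sylow 2 G}

theorem Hyp.exists_mulEquiv_SL_prod (h : Hyp P) :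
    ∃ (F : Type) (_ : Field F) (_ : Fintype F), CharP F 2 ∧ Odd (Nat.card (center G)) ∧
      Nonempty (G ≃* Matrix.SpecialLinearGroup (Fin 2) F × center G) := by
  classical
  have hq := h.elemCent_quot (claim h)
  obtain ⟨F, instF, instFin, hcard, h2, ⟨e⟩⟩ := hq.nonempty_equiv_SL2
  have h4 : 4 ≤ Fintype.card F := hcard ▸ hq.three_le
  have : CharP F 2 := CharTwo.of_one_ne_zero_of_two_eq_zero one_ne_zero
    (by rw [← one_add_one_eq_two]; exact h2 1)
  have hZodd : Odd (Nat.card (center G)) := by
    rw [← Nat.not_even_iff_odd]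
    intro he
    obtain ⟨t, ht, ht2⟩ := Invol.exists_orderOf_two_of_even_card he
    exact h.invol_ne_center ht2 ht
  set f : G →* Matrix.SpecialLinearGroup (Fin 2) F :=
    e.toMonoidHom.comp (QuotientGroup.mk' (center G)) with hf
  have hfs : Function.Surjective f := e.surjective.comp (QuotientGroup.mk'_surjective _)
  have hfk : f.ker = center G := by
    ext x
    rw [MonoidHom.mem_ker, hf, MonoidHom.comp_apply, MulEquiv.coe_toMonoidHom,
      map_eq_one_iff _ e.injective, QuotientGroup.mk'_apply, QuotientGroup.eq_one_iff]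
  set C := _root_.commutator G with hC
  have hperf : _root_.commutator (Matrix.SpecialLinearGroup (Fin 2) F) = ⊤ :=
    Linear.commutator_SL_eq_top (Or.inr (Linear.exists_sq_ne_one_of_four_le_card
      (by rw [Nat.card_eq_fintype_card]; exact h4)))
  have hmap : C.map f = ⊤ := by
    rw [← hperf, hC, commutator_def, commutator_def, map_commutator,
      map_top_of_surjective f hfs]
  have hsup : C ⊔ center G = ⊤ := by
    rw [← hfk, ← comap_map_eq, hmap, comap_top]
  have hCperf : _root_.commutator C = ⊤ := by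
    apply map_injective C.subtype_injective
    rw [Schur.map_commutator_eq_of_center C.subtype (by rw [range_subtype, hsup]),
      ← MonoidHom.range_eq_map, range_subtype, hC]
  set σ : C →* Matrix.SpecialLinearGroup (Fin 2) F := f.comp C.subtype with hσ
  have hσs : Function.Surjective σ := fun y => by
    obtain ⟨x, hx, hxy⟩ := hmap.ge (mem_top y)
    exact ⟨⟨x, hx⟩, hxy⟩
  have hσc : σ.ker ≤ center C := fun x hx => mem_center_iff.mpr fun y =>
    Subtype.ext (mem_center_iff.mp (hfk.le (hx : f x = 1)) y)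
  have hσd : σ.ker ≤ _root_.commutator C := hCperf ▸ le_top
  have hσk : σ.ker = ⊥ := by
    rw [← Subgroup.card_eq_one]
    by_contra hne
    obtain ⟨p, hp, hpd⟩ := Nat.exists_prime_and_dvd hne
    have := Fact.mk hp
    have hp2 : p ≠ 2 := by
      rintro rfl
      refine Nat.not_even_iff_odd.mpr hZodd (even_iff_two_dvd.mpr (hpd.trans ?_))
      rw [← card_map_of_injective (f := C.subtype) C.subtype_injective]
      refine card_dvd_of_le ?_
      rintro _ ⟨x, hx, rfl⟩
      exact hfk.le (hx : f x = 1)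
    obtain ⟨Q⟩ : Nonempty (Sylow p C) := inferInstance
    have hcyc : IsCyclic ((Q : Subgroup C).map σ) := by
      rcases SchurSL2.cyclic_or_quaternion 2 hp2 _ (Q.isPGroup'.map σ) with hc |
        ⟨a, -, m, -, -, -, ha⟩
      · exact hc
      · obtain ⟨k, hk⟩ := (IsPGroup.iff_orderOf.mp (Q.isPGroup'.map σ)) a
        exact absurd (Nat.eq_one_of_dvd_coprimes
          ((Nat.coprime_primes Nat.prime_two hp).mpr (Ne.symm hp2) |>.pow_right k) dvd_rfl
          (hk ▸ ha ▸ dvd_mul_right 2 m)) (by decide)
    exact SchurSylow.not_dvd_card_ker_of_cyclic σ hσc hσd Q hpd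
  let eC : C ≃* Matrix.SpecialLinearGroup (Fin 2) F :=
    MulEquiv.ofBijective σ ⟨(MonoidHom.ker_eq_bot_iff σ).mp hσk, hσs⟩
  let φ : C × center G →* G := C.subtype.noncommCoprod (center G).subtype
    fun x y => mem_center_iff.mp y.2 x
  have hφs : Function.Surjective φ := fun g => by
    obtain ⟨a, ha, b, hb, rfl⟩ := mem_sup_of_normal_left.mp (hsup.ge (mem_top g))
    exact ⟨(⟨a, ha⟩, ⟨b, hb⟩), rfl⟩
  have hφi : Function.Injective φ := by
    rw [← MonoidHom.ker_eq_bot_iff, eq_bot_iff]
    rintro ⟨a, b⟩ hab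
    have hab' : (a : G) * b = 1 := hab
    have ha : a ∈ σ.ker := by
      show f a = 1
      rw [← MonoidHom.mem_ker, hfk]
      rw [eq_inv_of_mul_eq_one_left hab']
      exact inv_mem b.2
    rw [hσk, mem_bot] at ha
    subst ha
    have hb : b = 1 := Subtype.ext (by simpa using hab')
    simp [hb]
  exact ⟨F, instF, instFin, ‹_›, hZodd, ⟨(MulEquiv.ofBijective φ ⟨hφi, hφs⟩).symm.trans
    (eC.prodCongr (MulEquiv.refl _))⟩⟩

end CfsgLib.AbInvCent
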